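import Cfsg.Agent.N2.Cl.FrSp.Num_m3
import Cfsg.Agent.H239.TPSp
import Cfsg.Agent.ClassicalGeometry.OrthSemiForms
import Cfsg.Agent.H902.Iso
import Cfsg.Agent.Lib.ListFast
import Cfsg.Agent.KZ.DatX.Gd_m3
import Cfsg.Agent.TO.X11.Fr_m3
import Cfsg.Agent.N2.Defs_m3
import Cfsg.Agent.H341.ThreeList_m3
import Cfsg.Agent.MK.U43.GT
import Cfsg.Agent.SB.Fr.Main_m3
import Cfsg.Agent.SB.Mon.F24.Chk2_m3
import Cfsg.Agent.TAB.F22.FxB_m3
import Cfsg.Agent.H836.Facts
import Cfsg.Agent.H815.InvM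
import Cfsg.Agent.H830.Con22
import Cfsg.Agent.R08.X4Gamma_m3
import Cfsg.Agent.TwoF.DC.Pow.Main_m3
import Cfsg.Agent.TwoF.DC.Close
import Cfsg.Agent.TwoF.DC.D1.Main_m3
import Cfsg.Agent.OrdDiv.Table
import Cfsg.Agent.H436.Core3719
import Cfsg.Agent.H612.MinNormal
import Cfsg.Agent.Lib.SolvableMinNormal
import Cfsg.Agent.Lib.Cores
import Cfsg.Agent.H497.UFourTwo
import Cfsg.Agent.H93.ThreeNine
import Cfsg.Agent.H845.AutUFour
import Cfsg.Agent.H824.ProdLem
import Cfsg.Agent.H138.HT.Alt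
import Cfsg.Agent.S0243
import Cfsg.Agent.SmallSimple.S1000.PSLFacts
import Cfsg.Agent.SolvableStructure.HallConverse
import Cfsg.Agent.S5774
import Cfsg.Agent.FastGrp
import Cfsg.Agent.Prune
set_option linter.all false

section
prune_inst 0x7ffcacf8afb9addeffff7e67aed0dffc39905fffefdff943ffe861cf0fdf030a09c523858de010fe1ec2421410a87803fbfffabfe26bdc7ffffd5ff41ffbee0fe5f6b50811968c340f3c2ff683f0778e7f3fffffffffffffffffffffffffffbeffbfffffffff

-- part: N2/Tri/S4
section
set_option linter.all false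
open scoped Cfsg.Agent.FastGrp

-- part: N2/Tri/MatO
section
/-!
# N2 (S3519): triples with a conjugate power, orthogonal groups for the engine (helper6)
-/

set_option autoImplicit false
set_option linter.unusedSectionVars false

namespace Cfsg.Agent.N2.Tg.Eng

open Cfsg Subgroup Matrix

section

variable {W : Type} [AddCommGroup W] {p B n : ℕ} {bl : List W} {G : Type} [Group G] {ρ : G →* AddMonoid.End W}
  {N : Type} [Group N] {f : G →* N} {gs : List (List ℕ)}

theorem Cov.triJ {X Y : List ℕ} (C : Cov p B n bl ρ f (X :: Y :: gs)) (L : List (ℕ × ℕ × ℕ × List (List ℕ))) (v : List ℕ)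
    {o a b c j : ℕ} (ho : Nat.card G = o) (h : chkT p B n X Y L o a b 0 = true)
    (h' : chkJ p B n (X :: Y :: gs) [0, 1] v c j = true) : ∃ x y : N, x ^ a = 1 ∧ y ^ b = 1 ∧
      closure ({x, y} : Set N) = ⊤ ∧ (x * y) ^ c = 1 ∧ IsConj (x * y) ((x * y) ^ j) := by
  have := finite_of C.fr C.inj
  simp only [chkT, frcL_eq, Bool.and_eq_true, Nat.ble_eq, Bool.not_eq_true'] at h
  obtain ⟨⟨⟨⟨⟨h1, h2⟩, h3⟩, h4⟩, -⟩, -⟩ := h
  simp only [chkJ, frcM_eq, frcL_eq, Bool.and_eq_true, beq_iff_eq, Bool.not_eq_true'] at h'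
  obtain ⟨⟨h5, h6⟩, -⟩ := h'
  obtain ⟨x, -, hx⟩ := C.mem X (by simp)
  obtain ⟨y, -, hy⟩ := C.mem Y (by simp)
  obtain ⟨u, -, hu⟩ := ev_in C.fr C.mem v
  have h7 : closure ({x, y} : Set G) = ⊤ := eq_top_of_le_card _ (ho.le.trans (h2.trans (chain_le C.fr L _ _ (by
    simp only [List.mem_cons, List.not_mem_nil, or_false, forall_eq_or_imp, forall_eq]
    exact ⟨⟨x, subset_closure (by simp), hx⟩, y, subset_closure (by simp), hy⟩) h1)))
  have h8 : Rep p B n bl (ev p B n (X :: Y :: gs) [0, 1]) (ρ (x * y)) := by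
    show Rep p B n bl (frcL (frcL (idC B n) (cmp p B n Y)) (cmp p B n X)) _
    rw [frcL_eq, frcL_eq, map_mul, ← mul_one (ρ y)]
    exact hx.mul C.fr (hy.mul C.fr C.fr.one)
  have h9 : (x * y) ^ c = 1 := C.inj (by rw [map_pow, map_one]; exact (h8.pw C.fr c).eq C.fr (h5 ▸ C.fr.one))
  have h10 : u * (x * y) = (x * y) ^ j * u := C.inj (by
    rw [map_mul, map_mul ρ _ u, map_pow]
    exact (hu.mul C.fr h8).eq C.fr (h6 ▸ (h8.pw C.fr j).mul C.fr hu))
  refine ⟨f x, f y, ?_, ?_, closure_pair_map f C.sur h7, by rw [← map_mul, ← map_pow, h9, map_one],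
    isConj_iff.2 ⟨f u, by rw [← map_mul f x, ← map_mul, h10, map_mul, map_pow, mul_inv_cancel_right]⟩⟩
  · rw [← map_pow, C.ker]
    exact mem_center_of h7 (Commute.pow_self x a) ((C.com (map_pow ρ x a ▸ hx.pw C.fr a) hy).1 h3)
  · rw [← map_pow, C.ker]
    exact mem_center_of h7 ((C.com (map_pow ρ y b ▸ hy.pw C.fr b) hx).1 h4) (Commute.pow_self y b)

theorem Has.triJ {o : ℕ} {X Y : List ℕ} (H : Has p B n N o (X :: Y :: gs)) (L : List (ℕ × ℕ × ℕ × List (List ℕ)))
    (v : List ℕ) {a b c j : ℕ} (h : chkT p B n X Y L o a b 0 = true) (h' : chkJ p B n (X :: Y :: gs) [0, 1] v c j = true) :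
    ∃ x y : N, x ^ a = 1 ∧ y ^ b = 1 ∧ closure ({x, y} : Set N) = ⊤ ∧ (x * y) ^ c = 1 ∧ IsConj (x * y) ((x * y) ^ j) :=
  let ⟨_, _, _, _, _, _, _, C, k⟩ := H
  C.triJ L v k h h'

theorem mem_comm {x y : G} (h1 : x ^ 2 = 1) (h2 : y ^ 3 = 1) (h3 : (x * y * (x * y * (x * y * y))) ^ 13 = 1) :
    x ∈ commutator G ∧ y ∈ commutator G := by
  have k1 := congrArg Abelianization.of h1
  have k2 := congrArg Abelianization.of h2
  have k3 := congrArg Abelianization.of h3
  simp only [map_pow, map_mul, map_one] at k1 k2 k3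
  have k0 : ∀ a b : Abelianization G, (a * b * (a * b * (a * b * b))) ^ 13 = a ^ 39 * b ^ 52 := fun a b => by
    rw [show a * b * (a * b * (a * b * b)) = a ^ 3 * b ^ 4 by simp only [pow_succ, pow_zero, one_mul]; ac_rfl, mul_pow,
      ← pow_mul, ← pow_mul]
  rw [k0, pow_eq_pow_mod 39 k1, pow_eq_pow_mod 52 k2, show 39 % 2 = 1 from rfl, pow_one,
    pow_one] at k3
  have k4 : Abelianization.of x = 1 := by
    rw [eq_inv_of_mul_eq_one_right k3, inv_pow, inv_eq_one, pow_succ, k1, one_mul] at k2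
    exact k2
  rw [k4, one_mul] at k3
  exact ⟨Abelianization.ker_of G ▸ k4, Abelianization.ker_of G ▸ k3⟩

end

variable {R : Type} [CommRing R] [Fintype R] {p g B n : ℕ} {rb : List R} {co : R → List ℕ} {N : Type} [Group N]

/-- the Gram matrix -/
def gram (m : ℕ) (R : Type) [CommRing R] : Matrix (Unit ⊕ (Fin m ⊕ Fin m)) (Unit ⊕ (Fin m ⊕ Fin m)) R :=
  fromBlocks 2 0 0 (fromBlocks 0 1 1 0)

theorem gram_eq {m : ℕ} {F : Type} [Field F] (u : Unit ⊕ (Fin m ⊕ Fin m) → F) :
    u ⬝ᵥ gram m F *ᵥ u = 2 * quadFormOdd m F u := by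
  have h : (2 : Matrix Unit Unit F) () () = 2 := by
    rw [← one_add_one_eq_two, Matrix.add_apply, one_apply_eq, one_add_one_eq_two]
  simp [gram, quadFormOdd, dotProduct, mulVec, Matrix.one_apply, h, mul_comm, two_mul, sq]
  ring

theorem gram_map {m : ℕ} {F : Type} [Field F] (e : R →+* F) : (gram m R).map e = gram m F := by
  simp only [gram, fromBlocks_map, Matrix.map_zero _ (map_zero e), Matrix.map_one _ (map_zero e) (map_one e)]
  congr 1
  exact map_ofNat e.mapMatrix 2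

/-- indices -/
def ilO (m : ℕ) : List (Unit ⊕ (Fin m ⊕ Fin m)) := [()].map .inl ++ (il2 m m).map .inr

/-- indices -/
def ixO (m : ℕ) : Unit ⊕ (Fin m ⊕ Fin m) → ℕ := Sum.elim (fun _ => 0) fun i => 1 + ix2 m i

theorem il_O (m : ℕ) (h : (1 + (m + m)) * g = n ∧ p ≤ B ∧ n * ((p - 1) * (p - 1)) < B) : Il p g B n (ilO m) :=
  ⟨nodup_sum (List.nodup_singleton _) (nodup_sum (List.nodup_finRange m) (List.nodup_finRange m)),
    by rintro (i | i | i) <;> simp [ilO, il2], by rw [← h.1]; simp [ilO, il2, add_comm], h.2.1, h.2.2⟩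

/-- **orthogonal groups of odd dimension** -/
theorem has_O {m o : ℕ} {il : List (Unit ⊕ (Fin m ⊕ Fin m))} (h : Rg R p g rb co) (I : Il p g B n il)
    (hN : OrdDiv.Real (.oodd m (p ^ g)) N) (hm : 3 ≤ m) (hq : Odd (p ^ g))
    (ho : 2 * o = (p ^ g) ^ (m ^ 2) * ∏ i ∈ Finset.range m, ((p ^ g) ^ (2 * (i + 1)) - 1))
    (A C : Matrix (Unit ⊕ (Fin m ⊕ Fin m)) (Unit ⊕ (Fin m ⊕ Fin m)) R)
    (hA : (A * A = 1 ∧ Aᵀ * gram m R * A = gram m R) ∧ C * (C * C) = 1 ∧ Cᵀ * gram m R * C = gram m R)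
    (h13 : frcL (cod B il rb co A) (fun X => frcL (cod B il rb co C) fun Y => frcL (cmp p B n X Y) fun Z =>
      frcL (cmp p B n Z Y) fun U => frcL (cmp p B n Z U) fun U => frcL (cmp p B n Z U) fun U =>
        pw p B n U 13 == idC B n) = true) : Has p B n N o [cod B il rb co A, cod B il rb co C] := by
  obtain ⟨F, _, _, hF, ⟨ε⟩⟩ := hN
  obtain ⟨e⟩ := h.equiv hF
  have h2 : (2 : F) ≠ 0 := Ring.two_ne_zero fun k => by
    rw [FiniteField.even_card_iff_char_two, hF] at k
    exact absurd hq (Nat.not_odd_iff_even.2 (Nat.even_iff.2 k))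
  let t : isometryGroup F (quadFormOdd m F) →* Matrix _ _ F := (Units.coeHom _).comp (isometryGroup F _).subtype
  have key : ∀ A A' : Matrix _ _ R, A * A' = 1 → Aᵀ * gram m R * A = gram m R →
      ∃ a : isometryGroup F (quadFormOdd m F), t a = A.map e := fun A A' h1 h3 => by
    have h4 : A.map e * A'.map e = 1 := by
      rw [← RingHom.coe_coe, ← Matrix.map_mul, h1, Matrix.map_one _ (map_zero _) (map_one _)]
    refine ⟨⟨⟨A.map e, A'.map e, h4, mul_eq_one_comm.1 h4⟩, fun u _ => mul_left_cancel₀ h2 ?_⟩, rfl⟩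
    have h5 := congrArg (fun M : Matrix _ _ R => M.map (e : R →+* F)) h3
    simp only [Matrix.map_mul, gram_map] at h5
    show 2 * quadFormOdd m F (A.map e *ᵥ u) = 2 * quadFormOdd m F u
    rw [← gram_eq, ← gram_eq, ← vecMul_transpose, ← dotProduct_mulVec, vecMul_transpose, mulVec_mulVec, mulVec_mulVec]
    exact congrArg (fun M => u ⬝ᵥ M *ᵥ u) h5
  obtain ⟨x, hx⟩ := key A A hA.1.1 hA.1.2
  obtain ⟨y, hy⟩ := key C _ hA.2.1 hA.2.2
  have ht : Function.Injective t := Units.val_injective.comp Subtype.val_injective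
  have h3 : ∀ (a : isometryGroup F (quadFormOdd m F)) A, t a = A.map e →
      Rep p B n (bas il rb) (cod B il rb co A) (rF e (t a)) := fun a A k => by
    rw [k, rF_map]
    exact h.rep I A
  simp only [frcL_eq, beq_iff_eq] at h13
  obtain ⟨h4, h5⟩ := mem_comm (x := x) (y := y)
    (ht (by rw [map_pow, map_one, hx, sq, ← RingHom.coe_coe, ← Matrix.map_mul, hA.1.1,
      Matrix.map_one _ (map_zero _) (map_one _)]))
    (ht (by rw [map_pow, map_one, hy, pow_succ', sq, ← RingHom.coe_coe, ← Matrix.map_mul, ← Matrix.map_mul,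
      hA.2.1, Matrix.map_one _ (map_zero _) (map_one _)]))
    (ht (rF_inj e (by
      have k := (h3 x A hx).mul (h.fr I) (h3 y C hy)
      simp only [map_pow, map_mul, map_one]
      exact ((k.mul (h.fr I) (k.mul (h.fr I) (k.mul (h.fr I) (h3 y C hy)))).pw (h.fr I) 13).eq (h.fr I)
        (h13 ▸ (h.fr I).one))))
  refine ⟨_, _, _, _, _, (rF e).comp (t.comp (commutator _).subtype), prj ε, ⟨h.fr I,
    (rF_inj e).comp (ht.comp Subtype.val_injective), prj_sur ε, prj_ker ε,
    two_mem ⟨⟨⟨x, h4⟩, mem_top _, h3 x A hx⟩, ⟨y, h5⟩, mem_top _, h3 y C hy⟩⟩, ?_⟩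
  refine Nat.eq_of_mul_eq_mul_left two_pos (Eq.trans ?_ ((S0292.result hF (hF ▸ hq) m hm).trans ho.symm))
  rw [card_eq_card_quotient_mul_card_subgroup (center _), card_eq_one.2 (H239.TPSp.center_bot F h2 (by omega)), mul_one]

end Cfsg.Agent.N2.Tg.Eng
end

-- part: N2/Tri/S4
section
/-!
# N2 (S3519): triples of `S₄(q)` (helper6)
-/

set_option autoImplicit false

namespace Cfsg.Agent.N2.Tg.S4

open Cfsg Cfsg.Agent.N2.Tg.Eng

variable {N : Type} [Group N]

theorem dat_s4_3 (h : OrdDiv.Real (.psp 2 3) N) (ho : Nat.card N = 25920) :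
    Tri N 2 6 5 ∧ Cj N 5 2 ∧ SC N 5 := by
  have H := (has_S (B := 32) (n := 4) (o := 51840) (rg_prime 3 (by norm_num)) (il_two 2 2 (by decide)) h (by decide +kernel)
    [mat 3 ([1] : List (ZMod 3)) (ix2 2) [[0, 1, 2, 0], [2, 1, 0, 1], [0, 1, 0, 1], [1, 2, 2, 2]],
    mat 3 ([1] : List (ZMod 3)) (ix2 2) [[2, 0, 0, 0], [0, 1, 0, 0], [0, 0, 2, 0], [0, 1, 0, 1]]] (two_mem (by decide +kernel))).ext
    [[0], [1], [0, 0, 0], [1, 1, 1, 1, 1]]
    [[32832, 66593, 65538, 66592], [2, 32800, 2048, 32768], [65568, 34882, 32769, 34880], [2, 65568, 2048, 32768]] (by decide +kernel)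
  exact ⟨H.tri [(1, 80, 78, [[0, 1, 1, 1, 0, 1], [1, 0, 1, 1, 0, 1, 1, 1, 1, 0, 1, 0, 1, 1, 1, 0, 1, 1, 0, 0, 0, 1, 0, 1, 1], [0, 1, 0, 0, 1, 1, 0, 1, 1], [1, 0, 0, 0, 0, 1, 1, 0, 0]]),
    (1024, 27, 16, [[2, 0, 3, 1, 2, 2, 3, 1, 2, 3], [2, 3, 1, 1]]),
    (32, 8, 5, [[1, 1, 0]]),
    (32768, 3, 2, [])]
    (by norm_num) (by decide +kernel),
    H.sc [3, 0] [1, 2, 3, 3, 2, 3, 2, 1, 1, 0, 1, 1, 0, 3, 0, 1, 0] [0] [2] [1] [3] 534 865 (by norm_num) ho (by decide) (by decide)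
    (by decide +kernel) (by decide +kernel) (by decide +kernel)⟩

theorem dat_s4_3J (h : OrdDiv.Real (.psp 2 3) N) :
    ∃ x y : N, x ^ 2 = 1 ∧ y ^ 4 = 1 ∧ Subgroup.closure ({x, y} : Set N) = ⊤ ∧ (x * y) ^ 9 = 1 ∧
      IsConj (x * y) ((x * y) ^ 4) := by
  have H := (has_S (B := 32) (n := 4) (o := 51840) (rg_prime 3 (by norm_num)) (il_two 2 2 (by decide)) h (by decide +kernel)
    [mat 3 ([1] : List (ZMod 3)) (ix2 2) [[0, 2, 2, 1], [2, 2, 1, 0], [2, 0, 0, 1], [0, 2, 1, 1]],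
    mat 3 ([1] : List (ZMod 3)) (ix2 2) [[1, 0, 1, 0], [1, 0, 1, 2], [1, 2, 2, 1], [1, 1, 1, 1]]] (two_mem (by decide +kernel))).ext
    [[0], [1], [0, 0, 0], [1, 1, 1]]
    [[2112, 65602, 32802, 33793], [33825, 34816, 34849, 33856], [1056, 32801, 65601, 67586], [34850, 67617, 1026, 1058]] (by decide +kernel)
  exact H.triJ [(1, 80, 76, [[1, 0, 1, 0, 1, 0], [0, 1, 0, 0, 0, 1, 0, 1, 1, 0, 0, 1, 1, 1], [1, 0, 1, 1, 0, 1, 1, 1]]),
    (1024, 27, 20, [[1, 0, 0, 0, 0, 2, 2, 1, 0], [2, 0, 0, 1, 1, 2, 0, 1, 1]]),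
    (32, 8, 5, [[1, 0, 1, 0, 1]]),
    (32768, 3, 2, [])]
    [2, 3, 2, 3, 2, 1, 2, 3, 2, 3, 0, 3, 0, 1, 1, 0, 1, 0, 3] (by decide +kernel) (by decide +kernel)

theorem dat_s4_4 (h : OrdDiv.Real (.psp 2 4) N) (ho : Nat.card N = 979200) :
    Tri N 2 4 17 ∧ Cj N 17 4 ∧ SC N 17 := by
  have H := (has_S (B := 16) (n := 8) (o := 979200) rg4 (il_two 2 2 (by decide)) h (by decide +kernel)
    [mat 2 (b2 2 1 1) (ix2 2) [[1, 0, 2, 2], [1, 0, 2, 0], [3, 3, 1, 1], [3, 3, 0, 0]],
    mat 2 (b2 2 1 1) (ix2 2) [[1, 2, 2, 1], [0, 3, 3, 0], [1, 3, 2, 1], [2, 1, 2, 0]]] (two_mem (by decide +kernel))).ext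
    [[0], [1], [0], [1, 1, 1]]
    [[286327041, 16846864, 286326784, 16842752, 69648, 1052945, 65552, 1048593], [268500993, 286261264, 17895696, 268501265, 269488400, 286327057, 65537, 1048592], [286327041, 16846864, 286326784, 16842752, 69648, 1052945, 65552, 1048593], [285278480, 17829905, 17825808, 269549585, 268501264, 286265361, 285212689, 16777217]] (by decide +kernel)
  exact ⟨H.tri [(1, 255, 246, [[1, 0, 1, 0, 0, 0, 1, 0, 0, 0, 1, 0, 1], [0, 1, 1, 1, 0, 1, 1, 1, 0, 1, 1, 1, 0, 1, 1, 0, 1, 0, 1, 1, 0, 1, 0, 0]]),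
    (65536, 64, 58, [[0, 0, 0, 1, 1, 0, 1, 1], [0, 0, 1, 1, 0, 0, 0, 0, 1, 1, 1]]),
    (256, 15, 12, [[1, 1, 0, 0, 1, 1, 0, 0, 1], [1, 1, 0, 0, 0, 0, 0, 1, 1, 0]]),
    (16777216, 4, 2, [])]
    (by norm_num) (by decide +kernel),
    H.scF [3, 0] [1, 2, 3, 2, 3, 2, 3, 2, 3, 2, 1, 2, 1, 0, 1, 1, 0, 1, 0, 1, 0, 1, 0, 1, 0, 3] 1 [1, 1114368, 268505088, 269549825, 269484304, 268505361, 268435472, 16777472] [1]
      [(1, 1), (16, 1114369), (17, 1114368), (256, 286261248), (257, 285278225), (272, 269549841), (273, 269488144), (4096, 285278209),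
      (4097, 268501008), (4112, 16846865), (4113, 286326800), (4352, 1114113), (4353, 16777473), (4368, 1118208), (4369, 268439552),
      (65536, 286261520), (65537, 17891329), (65552, 269549824), (65553, 285278208), (65792, 1052945), (65793, 1048849), (65808,
      1114385), (65809, 285212689), (69632, 16847104), (69633, 268500993), (69648, 1118481), (69649, 1052944), (69888, 16781569),
      (69889, 65808), (69904, 16781313), (69905, 269553681), (1048576, 17830161), (1048577, 256), (1048592, 269549840), (1048593,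
      269488385), (1048832, 285216768), (1048833, 16846849), (1048848, 16777216), (1048849, 69888), (1052672, 285282577), (1052673,
      269484289), (1052688, 269484032), (1052689, 16847120), (1052928, 17), (1052929, 286265360), (1052944, 17826065), (1052945,
      1048577), (1114112, 268439553), (1114113, 69633), (1114128, 285278464), (1114129, 285212945), (1114368, 16847121), (1114369,
      69904), (1114384, 285212928), (1114385, 286327056), (1118208, 268435713), (1118209, 16843009), (1118224, 286261264), (1118225,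
      16843024), (1118464, 286326784), (1118465, 17829889), (1118480, 17826064), (1118481, 268435729), (16777216, 286261505), (16777217,
      269553921), (16777232, 269488145), (16777233, 269488384), (16777472, 17829904), (16777473, 16842769), (16777488, 1048848),
      (16777489, 1118480), (16781312, 4112), (16781313, 285212688), (16781328, 269549584), (16781329, 286265361), (16781568, 17891344),
      (16781569, 268505104), (16781584, 17891345), (16781585, 269488400), (16842752, 269484049), (16842753, 17891600), (16842768,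
      285217024), (16842769, 285212672), (16843008, 286261504), (16843009, 268435473), (16843024, 69632), (16843025, 1118209),
      (16846848, 65552), (16846849, 16847105), (16846864, 1052689), (16846865, 285282576), (16847104, 286327041), (16847105, 16781585),
      (16847120, 286265617), (16847121, 16842752), (17825792, 16777217), (17825793, 1114128), (17825808, 285278480), (17825809,
      17895424), (17826048, 268439808), (17826049, 16843008), (17826064, 17891585), (17826065, 268439825), (17829888, 16777232),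
      (17829889, 285217041), (17829904, 17895440), (17829905, 286331152), (17830144, 16777472), (17830145, 1052929), (17830160,
      268505360), (17830161, 17830160), (17891328, 269553936), (17891329, 16781312), (17891344, 269549568), (17891345, 17891584),
      (17891584, 17830145), (17891585, 17825792), (17891600, 16781568), (17891601, 268439568), (17895424, 17826048), (17895425,
      268501265), (17895440, 285216785), (17895441, 16781328), (17895680, 17826049), (17895681, 4369), (17895696, 17891601), (17895697,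
      1048832), (268435456, 1114112), (268435457, 1052928), (268435472, 286261521), (268435473, 269484305), (268435712, 286265345),
      (268435713, 16777488), (268435728, 16777489), (268435729, 285282560), (268439552, 17829888), (268439553, 65792), (268439568,
      286327057), (268439569, 268501249), (268439808, 65793), (268439809, 286326785), (268439824, 268500992), (268439825, 65553),
      (268500992, 269553664), (268500993, 16843025), (268501008, 1052673), (268501009, 17895425), (268501248, 268505344), (268501249,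
      286331153), (268501264, 286327040), (268501265, 4096), (268505088, 286261265), (268505089, 269553665), (268505104, 17895681),
      (268505105, 286331137), (268505344, 269488129), (268505345, 16777233), (268505360, 285282305), (268505361, 285282320), (269484032,
      285282304), (269484033, 286330896), (269484048, 1118465), (269484049, 16842753), (269484288, 285217040), (269484289, 269488128),
      (269484304, 269484048), (269484305, 1048833), (269488128, 257), (269488129, 268505361), (269488144, 286326801), (269488145,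
      268435457), (269488384, 268501248), (269488385, 285212929), (269488400, 1114384), (269488401, 4113), (269549568, 17825809),
      (269549569, 286331136), (269549584, 269553937), (269549585, 269553680), (269549824, 268435472), (269549825, 269553920),
      (269549840, 269549825), (269549841, 268501009), (269553664, 273), (269553665, 16846848), (269553680, 17895680), (269553681,
      17825808), (269553920, 1118464), (269553921, 286265616), (269553936, 4368), (269553937, 268501264), (285212672, 285278465),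
      (285212673, 4352), (285212688, 268435456), (285212689, 16846864), (285212928, 69905), (285212929, 269484033), (285212944, 69648),
      (285212945, 16842768), (285216768, 268505105), (285216769, 269488401), (285216784, 286265344), (285216785, 285282561), (285217024,
      16), (285217025, 269549585), (285217040, 1052688), (285217041, 269484288), (285278208, 1048592), (285278209, 17830144),
      (285278224, 268435712), (285278225, 268439809), (285278464, 17895696), (285278465, 286265600), (285278480, 65536), (285278481,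
      285212673), (285282304, 285212944), (285282305, 4353), (285282320, 285278224), (285282321, 268505088), (285282560, 268439569),
      (285282561, 65809), (285282576, 285278481), (285282577, 1052672), (286261248, 272), (286261249, 285216769), (286261264, 1048593),
      (286261265, 17825793), (286261504, 285217025), (286261505, 65537), (286261520, 4097), (286261521, 16781584), (286265344,
      286330881), (286265345, 17895697), (286265360, 285282321), (286265361, 286330897), (286265600, 268439824), (286265601, 269549569),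
      (286265616, 1114129), (286265617, 69889), (286326784, 17895441), (286326785, 268505345), (286326800, 1118224), (286326801,
      16781329), (286327040, 268435728), (286327041, 1048576), (286327056, 69649), (286327057, 17829905), (286330880, 1118225),
      (286330881, 285216784), (286330896, 286330880), (286330897, 286265601), (286331136, 286261249), (286331137, 268505089),
      (286331152, 269484304), (286331153, 17891328)]
      (by norm_num) ho (by decide) (by decide +kernel) (by decide +kernel)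
    (by decide +kernel) (by decide +kernel) (by decide +kernel)⟩

theorem dat_s4_5 (h : OrdDiv.Real (.psp 2 5) N) :
    Tri N 2 3 13 ∧ Cj N 13 5 := by
  have H := (has_S (B := 128) (n := 4) (o := 9360000) (rg_prime 5 (by norm_num)) (il_two 2 2 (by decide)) h (by decide +kernel)
    [mat 5 ([1] : List (ZMod 5)) (ix2 2) [[3, 3, 3, 4], [3, 1, 4, 2], [4, 1, 2, 2], [1, 0, 2, 4]],
    mat 5 ([1] : List (ZMod 5)) (ix2 2) [[4, 3, 1, 4], [0, 1, 3, 4], [2, 2, 1, 4], [2, 2, 0, 0]]] (two_mem (by decide +kernel))).ext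
    [[0], [1], [0, 0, 0], [1, 1]]
    [[2163075, 16515, 4227587, 8421636], [4227076, 4227203, 16769, 66052], [8405250, 66050, 6340738, 2146689], [6341121, 6340608, 6357124, 2097282]] (by decide +kernel)
  exact ⟨H.tri [(1, 624, 621, [[0, 1, 0, 1, 0, 1, 0, 0, 1, 0, 1, 1, 0, 1, 1, 0, 1], [1, 0, 1, 0, 1, 0, 1, 0, 1, 0, 1, 0, 1, 1, 0]]),
    (16384, 125, 114, [[1, 0, 0, 0, 1, 0, 1, 0, 1, 1, 1, 0], [1, 1, 1, 0, 1, 0]]),
    (128, 24, 21, [[1, 0, 0, 1, 0, 1, 1]]),
    (2097152, 5, 4, [])]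
    (by norm_num) (by decide +kernel),
    H.cj [1, 0] [3, 2, 3, 2, 3, 2, 3, 2, 1, 2, 1, 2, 1, 2, 1, 2, 3, 2, 1, 2, 3, 2, 3, 2, 3, 0, 1, 0, 1, 0, 1, 0, 3, 0, 1, 0, 1, 0, 1, 0, 3, 0, 1, 0, 3, 0, 1] (by norm_num) (by decide +kernel)⟩

theorem dat_s4_7 (h : OrdDiv.Real (.psp 2 7) N) :
    (∃ c, Tri N 2 3 c) := by
  have H := (has_S (B := 256) (n := 4) (o := 276595200) (rg_prime 7 (by norm_num)) (il_two 2 2 (by decide)) h (by decide +kernel)
    [mat 7 ([1] : List (ZMod 7)) (ix2 2) [[1, 4, 4, 5], [3, 0, 5, 0], [5, 3, 6, 4], [3, 1, 3, 0]],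
    mat 7 ([1] : List (ZMod 7)) (ix2 2) [[4, 0, 4, 2], [6, 4, 1, 0], [3, 0, 5, 2], [6, 4, 1, 2]]] (two_mem (by decide +kernel))).ext
    [[0], [1], [0, 0, 0], [1, 1]]
    [[50660097, 16973828, 50726148, 262149], [100861444, 67109888, 17105156, 33685506], [67240966, 100925443, 67174915, 196610], [262661, 50397697, 263427, 67502086]] (by decide +kernel)
  exact H.any [(1, 2400, 2397, [[1, 1, 0, 0, 0, 1, 0, 1, 0, 1, 1, 0, 1, 0, 0, 0, 1, 1, 0, 1, 0, 1, 0], [1, 1, 0, 1, 0, 1, 0, 1, 0, 1, 1, 0, 0, 0, 1, 0, 0, 0, 0, 0, 1, 0, 1, 0]]),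
    (65536, 343, 327, [[1, 1, 1, 0, 1, 0, 0, 0, 1, 0], [0, 1, 0, 1, 1, 1, 0, 1, 0, 0]]),
    (256, 48, 47, [[1, 0, 0, 1, 0, 1, 1]]),
    (16777216, 7, 6, [])]
    (by decide +kernel)

end Cfsg.Agent.N2.Tg.S4
end

private theorem dce_3f232c8faff7 : _root_.True := by
  try have : _root_.True := by simp only [_root_.Cfsg.Agent.N2.Tg.Eng.ilO.eq_1]
  try have : _root_.True := by simp only [_root_.Cfsg.Agent.N2.Tg.Eng.gram.eq_1]
  exact _root_.True.intro
end

-- part: N2/Tri/O7
section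
set_option linter.all false

/-!
# N2 (S3519): triples of `O₇(3)` (helper6)
-/

set_option autoImplicit false

namespace Cfsg.Agent.N2.Tg.O7

open Cfsg Cfsg.Agent.N2.Tg.Eng

variable {N : Type} [Group N]

theorem dat_o7_3 (h : OrdDiv.Real (.oodd 3 3) N) :
    (∃ c, Tri N 2 3 c) ∧ Cj N 13 3 := by
  have H := (has_O (B := 32) (n := 7) (o := 4585351680) (rg_prime 3 (by norm_num)) (il_O 3 (by decide)) h (by decide) (by decide) (by decide +kernel)
    (mat 3 ([1] : List (ZMod 3)) (ixO 3) [[2, 0, 0, 2, 2, 2, 0], [1, 0, 2, 2, 0, 2, 2], [1, 0, 2, 2, 2, 2, 2], [0, 0, 0, 1, 2, 2, 0], [0, 1, 2, 0, 0, 0, 0], [0, 2, 1, 0, 2, 2, 0], [1, 0, 0, 2, 2, 2, 1]])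
    (mat 3 ([1] : List (ZMod 3)) (ixO 3) [[1, 2, 2, 0, 1, 2, 1], [1, 0, 0, 2, 2, 2, 1], [2, 1, 1, 2, 0, 0, 1], [1, 1, 1, 0, 0, 2, 0], [2, 0, 1, 0, 1, 2, 2], [2, 1, 0, 0, 2, 0, 0], [0, 1, 2, 1, 1, 2, 1]]) (by decide +kernel) (by decide +kernel)).ext
    [[0], [1], [0], [1, 1]]
    [[1073742882, 68157440, 35653696, 2147518530, 2214660098, 2214660162, 1073743936], [69240865, 1107330050, 2148566018, 1073743936, 1141899329, 2149646402, 1075840033], [1073742882, 68157440, 35653696, 2147518530, 2214660098, 2214660162, 1073743936], [34669633, 33622049, 1048641, 1141934112, 2147518530, 2182119425, 34605058]] (by decide +kernel)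
  exact ⟨H.any [(1, 756, 740, [[0, 1, 1, 0, 1, 1, 0, 1, 1, 0, 1, 0, 1, 0, 1, 0, 1, 0, 1, 0, 1], [1, 1, 0, 1, 0, 1, 0, 1, 0, 1, 0, 1, 1]]),
    (32, 260, 246, [[1, 0, 1, 0, 1, 1, 0, 0, 0, 1, 0, 1, 0, 0], [1, 0, 1, 0, 0, 1, 1, 0, 0, 1, 0, 0]]),
    (1024, 96, 87, [[0, 0, 0, 0, 1, 1, 0, 0, 1, 1], [0, 0, 1, 0, 0, 1, 0, 0, 0, 1, 1, 1, 0, 1], [1, 0, 0, 0, 1, 0, 1, 0], [0, 0, 0, 0, 1]]),
    (1048576, 27, 18, [[0, 0, 1, 2, 1, 1], [3, 3, 1, 3, 0]]),
    (33554432, 9, 6, [])]
    (by decide +kernel),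
    H.cj [1, 2, 3, 0, 1, 0] [2, 1, 2, 1, 2, 1, 2, 3, 2, 3, 2, 3, 2, 1, 2, 1, 2, 3, 2, 1, 2, 3, 2, 1, 2, 3, 2, 3, 0, 1, 0, 1, 0, 1, 0, 3, 0, 1, 0, 1, 0, 3, 0, 1, 0, 1, 0, 3, 0, 3, 0, 3, 0, 3] (by norm_num) (by decide +kernel)⟩

end Cfsg.Agent.N2.Tg.O7
end

-- part: N2/Tri/O8m
section
set_option linter.all false
open scoped Cfsg.Agent.FastGrp

/-!
# N2 triples: `Ω₈⁻(2)` is `(2, 3)`-generated (helper38)
-/

set_option autoImplicit false

namespace Cfsg.Agent.N2.Tg.O8m

open Subgroup Cfsg.Agent.LieClassical.OrthCore Cfsg.Agent.LieClassical.OrthForms Cfsg.Agent.N2.Tg.Orth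
  Cfsg.Agent.ClassicalGeometry.OrthSemiForms

/-- the space -/
abbrev V : Type := (Fin 3 ⊕ Fin 3) ⊕ Fin 2 → ZMod 2

/-- the form -/
abbrev Q : QuadraticForm (ZMod 2) V := minusForm 3 (ZMod 2) 1 1

theorem aniso : ∀ z₁ z₂ : ZMod 2, z₁ ^ 2 + 1 * z₁ * z₂ + 1 * z₂ ^ 2 = 0 → z₁ = 0 ∧ z₂ = 0 := by decide

/-- bit positions -/
def ix : (Fin 3 ⊕ Fin 3) ⊕ Fin 2 → ℕ := Sum.elim (Sum.elim (fun i => i.1) (fun i => i.1 + 3)) (fun i => i.1 + 6)

/-- decoding -/
def dec (n : ℕ) : V := fun i => cc (n.testBit (ix i))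

/-- the form on codes -/
def qn (n : ℕ) : Bool :=
  ((n.testBit 0 && n.testBit 3) ^^ (n.testBit 1 && n.testBit 4) ^^ (n.testBit 2 && n.testBit 5)) ^^
    (n.testBit 6 ^^ (n.testBit 6 && n.testBit 7) ^^ n.testBit 7)

theorem dec_xor (a b : ℕ) : dec (a ^^^ b) = dec a + dec b := by
  funext i
  show cc ((a ^^^ b).testBit (ix i)) = cc _ + cc _
  rw [Nat.testBit_xor, cc_xor]

theorem dec_eq_zero : ∀ a : Fin 256, dec a.1 = 0 → a = 0 := by decide +kernel

theorem dec_inj {a b : ℕ} (ha : a < 256) (hb : b < 256) (h : dec a = dec b) : a = b := by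
  have h1 : dec (a ^^^ b) = 0 := by rw [dec_xor, h, add_self]
  have h2 := dec_eq_zero ⟨a ^^^ b, Nat.xor_lt_two_pow (n := 8) ha hb⟩ h1
  have h3 : a ^^^ b = 0 := congrArg Fin.val h2
  have h4 : (a ^^^ b) ^^^ b = a := by rw [Nat.xor_assoc, Nat.xor_self, Nat.xor_zero]
  rw [h3, Nat.zero_xor] at h4
  exact h4.symm

theorem dec_surj (v : V) : ∃ a < 256, dec a = v := by
  have hinj : Function.Injective (fun a : Fin 256 => dec a.1) := fun a b hab =>
    Fin.ext (dec_inj a.2 b.2 hab)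
  have hbij : Function.Bijective (fun a : Fin 256 => dec a.1) := by
    rw [Fintype.bijective_iff_injective_and_card]
    refine ⟨hinj, ?_⟩
    rw [Fintype.card_fun]
    simp [ZMod.card]
  obtain ⟨a, ha⟩ := hbij.2 v
  exact ⟨a.1, a.2, ha⟩

theorem cc_sq (b : Bool) : cc b ^ 2 = cc b := by cases b <;> decide

theorem q_dec (n : ℕ) : Q (dec n) = cc (qn n) := by
  rw [congrFun (coe_minusForm 3 (ZMod 2) 1 1) (dec n), quadFormMinus_apply, Fin.sum_univ_three]
  simp only [qn, cc_xor, cc_and, one_mul, dec, cc_sq]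
  rfl

theorem cod : Cod Q dec qn := ⟨dec_xor, dec_surj, q_dec⟩

def lx : List (ℕ × ℕ) := [(211, 91), (56, 134)]
def ly : List (ℕ × ℕ) := [(86, 138), (235, 46), (62, 195)]
def tx : ℕ := 0x224ec5a998f47f13711d96facba72c40513db6daeb870c60026ee589b8d45f333a56ddb180ec670b69058ee2d3bf34584925aec2f39f14781a76fd91a0cc472bd2be355968048fe381ed660a3b57dcb0a1cd462a1b77fc90f29e15794824afc3caa62d41701c97fb99f57e12234fc4a8b9d55e32036fe488ea860d61503cb7dbf9951e72432fa4c8aac64d21107cf79b8ae66d01305cd7bbd9b53e52630f84e8e18d066a5b37bcd0b2de55390864ef8392fe75192844cfa3c1ad264a7b179cf00965ee82b3df54385a36bdd1e08c076b7a169df1c0ac274b2945cea293ff7418117df69aabc74c20422ea5c9f8941f73620e85e9d8b43f53315dd6ba8be76c00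
def ty : ℕ := 0xded07779838d2a24555bfcf20806a1af87892e20dad4737d0c02a5ab515ff8f6626ccbc53f319698e9e7404eb4ba1d133b35929c6668cfc1b0be1917ede3444a4b45e2ec1618bfb1c0ce69679d93343a121cbbb54f41e6e89997303ec4ca6d63f7f95e50aaa4030d7c72d5db212f8886aea00709f3fd5a54252b8c827876d1df010fa8a65c52f5fb8a84232dd7d97e705856f1ff050baca2d3dd7a748e802729bdb3141ae0ee494736389f916b65c2cce4ea4d43b9b7101e6f61c6c8323c9b95949a3d33c9c7606e1f11b6b8424cebe5cdc3646a909e39374648efe11b15b2bc2826818f757bdcd2a3ad0a04fef05759717fd8d62c22858bfaf4535da7a90e00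
def wR : List Bool := bits 200 91715622571
def wL : List (List Bool) := [1, 29, 11610, 13674, 43690, 875354].map (bits 200)
def wT : ℕ := 0xab5ab00000000000000000000000000156b00000000000000000dab000002ad550000000000000000000000000000000000000ab50000000ad5000002b56d00000015ab000000000000000000000000000000000000002d00000000000000000adb0000001b5500000000000000015b5b000000000000000156b600000055ad000056adb500000000b600000000000000000000000000000000000000000000000000000002ad6a000015ab6b0000000000000000000000000015b600000055ab0000000000000000adad0000055adb0000000000000000000000000156ad00000000560000000000000000000000000015ad000000000000000000aa00000000000000056ada00000000000000000ad6000000000000000000000000000000000000000000000000000000000000000000000000000000000000000000000000002b00000000000000000000000000056d000000000000000000ad00000000150000000000000000000000000000000000056d6b000002ad5b000000036b00000000060000000000000000000000000000000000000055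0000000000000002b6b5000000006a00000000000000002ad600000000000000002b56000000ab5500002ad5b600000002ad0000000000000000000000000000000000000000000000000000000156aa00000000da00000000000000000000000000015600000056ad0000000000000000ad5a000000156a00000000000000000000000000000d000000015500000000000000000000000000002a0000000000000000036a00000000000000015ab60000000000000000005b0000000000000000000000000000000000000000000000000000000000000000000000000000000000000000000000055aaa0000000000000000000000000055aa00000000000000000556000000055a000000000000000000000000000000000000006b000000003600000056d60000002ad5000000000000000000000000000000000000ab5a00000000000000055ad5000015ab6d00000000000000015b5a0000000000000000ab5600000ad5b5000000036d00000000db0000000000000000000000000000000000000000000000000000000001b500000002b50000000000000000000000000000160000000ada0000000000000000000300000156b50000000000000000000000000ad5b600000001b60000000000000000000000000000d5000000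000000000000d60000000000000000000a000000000000000015b50000000000000000000000000000000000000000000000000000000000000000000000000000000000000000000000000000000000055b000000005a000000000000000006d600000000000000000000000002ad6b000000000b000000000700000000000000000000000000000000000000000000000daa00002b56da00000002ab0000000000000000006d000000000000000000000000055aab000000000000000000050000000000000000000000000000000000000000000000001a00000ab56d000000001b00000002b600000000020000000000000000000000000000ab000000003500000000000000000000000000015b000000000000000000000000156adb000000056b0000000000000000000000000000010000002b6b00000000000000156aab0000000000000002ad6d00000000000000055ab600000000000000056adb00000006d5000000056a00000ab5b6000000015a000000ad5b000000ab5b00000ab5550000000000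

private noncomputable def _root_.Cfsg.Agent.LsF.fc0f61b_0 : {f // @Cfsg.Agent.N2.Tg.Orth.bn = f} := ⟨_, by first | (delta Cfsg.Agent.N2.Tg.Orth.bn; rewrite [Cfsg.Agent.LsF.nxor_pat, Cfsg.Agent.LsF.bxor_eq]; exact rfl) | exact rfl⟩
private noncomputable def _root_.Cfsg.Agent.LsF.fc0f61b_1 : {f // @Cfsg.Agent.N2.Tg.Orth.ok = f} := ⟨_, by first | (delta Cfsg.Agent.N2.Tg.Orth.ok; rewrite [Cfsg.Agent.LsF.fc0f61b_0.2, Cfsg.Agent.LsF.and_eq, Cfsg.Agent.LsF.not_eq]; exact rfl) | exact rfl⟩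
private noncomputable def _root_.Cfsg.Agent.LsF.fc0f61b_2 : {f // @Cfsg.Agent.N2.Tg.Orth.al = f} := ⟨_, by first | (delta Cfsg.Agent.N2.Tg.Orth.al; rewrite [Cfsg.Agent.LsF.all_eq, Cfsg.Agent.LsF.range_eq]; exact rfl) | exact rfl⟩
private noncomputable def _root_.Cfsg.Agent.LsF.fc0f61b_3 : {f // @Cfsg.Agent.N2.Tg.Orth.lk = f} := ⟨_, by first | (delta Cfsg.Agent.N2.Tg.Orth.lk; rewrite [Cfsg.Agent.LsF.nmul_pat, Cfsg.Agent.LsF.nmod_pat, Cfsg.Agent.LsF.nshr_pat]; exact rfl) | exact rfl⟩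
private noncomputable def _root_.Cfsg.Agent.LsF.fc0f61b_4 : {f // @Cfsg.Agent.N2.Tg.Orth.xn = f} := ⟨_, by first | (delta Cfsg.Agent.N2.Tg.Orth.xn; rewrite [Cfsg.Agent.LsF.fc0f61b_0.2, Cfsg.Agent.LsF.nxor_pat, Cfsg.Agent.LsF.and_eq, Cfsg.Agent.LsF.dBoolEq_eq, Cfsg.Agent.LsF.ite_eq]; exact rfl) | exact rfl⟩
private noncomputable def _root_.Cfsg.Agent.LsF.fc0f61b_5 : {f // @Cfsg.Agent.N2.Tg.Orth.ev = f} := ⟨_, by first | (delta Cfsg.Agent.N2.Tg.Orth.ev List.brecOn List.brecOn.go Cfsg.Agent.N2.Tg.Orth.ev._f; rewrite [Cfsg.Agent.LsF.fc0f61b_4.2]; (try delta Cfsg.Agent.N2.Tg.Orth.ev.match_1); (try delta List.casesOn); first | dsimp -zeta only | exact rfl) | exact rfl⟩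
private noncomputable def _root_.Cfsg.Agent.LsF.fc0f61b_6 : {f // @Cfsg.Agent.N2.Tg.Orth.tabChk = f} := ⟨_, by first | (delta Cfsg.Agent.N2.Tg.Orth.tabChk; rewrite [Cfsg.Agent.LsF.fc0f61b_1.2, Cfsg.Agent.LsF.fc0f61b_2.2, Cfsg.Agent.LsF.fc0f61b_3.2, Cfsg.Agent.LsF.fc0f61b_5.2, Cfsg.Agent.LsF.nbeq_pat, Cfsg.Agent.LsF.and_eq, Cfsg.Agent.LsF.all_eq]; exact rfl) | exact rfl⟩
private noncomputable def _root_.Cfsg.Agent.LsF.fc0f61b_7 : {f // @Cfsg.Agent.N2.Tg.O8m.qn = f} := ⟨_, by first | (delta Cfsg.Agent.N2.Tg.O8m.qn; rewrite [Cfsg.Agent.LsF.and_eq, Cfsg.Agent.LsF.testBit_eq, Cfsg.Agent.LsF.bxor_eq]; exact rfl) | exact rfl⟩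
theorem cx : tabChk qn lx tx = true := by ((try (rewrite [Cfsg.Agent.LsF.fc0f61b_6.2, Cfsg.Agent.LsF.fc0f61b_7.2])); decide +kernel)
theorem cy : tabChk qn ly ty = true := by ((try (rewrite [Cfsg.Agent.LsF.fc0f61b_6.2, Cfsg.Agent.LsF.fc0f61b_7.2])); decide +kernel)
theorem c2 : al (fun a => (lk tx)^[2] a == id a) = true := by decide +kernel
theorem c3 : al (fun a => (lk ty)^[3] a == id a) = true := by decide +kernel
private noncomputable def _root_.Cfsg.Agent.LsF.fc0f61b_8 : {f // @Cfsg.Agent.N2.Tg.Orth.sums = f} := ⟨_, by first | (delta Cfsg.Agent.N2.Tg.Orth.sums List.brecOn List.brecOn.go Cfsg.Agent.N2.Tg.Orth.sums._f; rewrite [Cfsg.Agent.LsF.nxor_pat, Cfsg.Agent.LsF.lappend_pat, Cfsg.Agent.LsF.map_eq]; (try delta Cfsg.Agent.N2.Tg.Orth.sums.match_1); (try delta List.casesOn); first | dsimp -zeta only | exact rfl) | exact rfl⟩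
private noncomputable def _root_.Cfsg.Agent.LsF.fc0f61b_9 : {f // @Cfsg.Agent.N2.Tg.Orth.bits = f} := ⟨_, by first | (delta Cfsg.Agent.N2.Tg.Orth.bits Cfsg.Agent.N2.Tg.Orth.bits._f Nat.brecOn.go Nat.brecOn; rewrite [Cfsg.Agent.LsF.ndiv_pat, Cfsg.Agent.LsF.nmod_pat, Cfsg.Agent.LsF.nbeq_pat, Cfsg.Agent.LsF.decLe_eq, Cfsg.Agent.LsF.ite_eq]; (try delta Cfsg.Agent.N2.Tg.Orth.bits.match_1); (try delta Nat.casesOn); first | dsimp -zeta only | exact rfl) | exact rfl⟩
private noncomputable def _root_.Cfsg.Agent.LsF.fc0f61b_10 : {f // @Cfsg.Agent.N2.Tg.Orth.lw = f} := ⟨_, by first | (delta Cfsg.Agent.N2.Tg.Orth.lw; rewrite [Cfsg.Agent.LsF.nmul_pat, Cfsg.Agent.LsF.nmod_pat, Cfsg.Agent.LsF.nshr_pat]; exact rfl) | exact rfl⟩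
private noncomputable def _root_.Cfsg.Agent.LsF.fc0f61b_11 : {f // @Cfsg.Agent.N2.Tg.Orth.topChk = f} := ⟨_, by first | (delta Cfsg.Agent.N2.Tg.Orth.topChk List.brecOn List.brecOn.go Cfsg.Agent.N2.Tg.Orth.ew._f Cfsg.Agent.N2.Tg.Orth.ew; rewrite [Cfsg.Agent.LsF.fc0f61b_1.2, Cfsg.Agent.LsF.fc0f61b_2.2, Cfsg.Agent.LsF.fc0f61b_4.2, Cfsg.Agent.LsF.fc0f61b_0.2, Cfsg.Agent.LsF.fc0f61b_8.2, Cfsg.Agent.LsF.fc0f61b_9.2, Cfsg.Agent.LsF.fc0f61b_10.2, Cfsg.Agent.LsF.nbeq_pat, Cfsg.Agent.LsF.instNBEq_pat, Cfsg.Agent.LsF.and_eq, Cfsg.Agent.LsF.or_eq, Cfsg.Agent.LsF.decLt_eq, Cfsg.Agent.LsF.all_eq, Cfsg.Agent.LsF.map_eq, Cfsg.Agent.LsF.contains_eq, Cfsg.Agent.LsF.dBoolEq_eq, Cfsg.Agent.LsF.ite_eq, Cfsg.Agent.LsF.decide_eq]; (try delta Cfsg.Agent.N2.Tg.Orth.ew.match_1); (try delta List.casesOn); first | dsimp -zeta only | exact rfl) | exact rfl⟩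
private noncomputable def _root_.Cfsg.Agent.LsF.fc0f61b_12 : {f // @Cfsg.Agent.N2.Tg.O8m.wR = f} := ⟨_, by first | (delta Cfsg.Agent.N2.Tg.O8m.wR; rewrite [Cfsg.Agent.LsF.fc0f61b_9.2]; exact rfl) | exact rfl⟩
private noncomputable def _root_.Cfsg.Agent.LsF.fc0f61b_13 : {f // @Cfsg.Agent.N2.Tg.O8m.wL = f} := ⟨_, by first | (delta Cfsg.Agent.N2.Tg.O8m.wL; rewrite [Cfsg.Agent.LsF.fc0f61b_9.2, Cfsg.Agent.LsF.map_eq]; exact rfl) | exact rfl⟩
theorem ct : topChk qn (lk tx) (lk ty) 17 47 wR wL wT = true := by ((try (rewrite [Cfsg.Agent.LsF.fc0f61b_11.2, Cfsg.Agent.LsF.fc0f61b_7.2, Cfsg.Agent.LsF.fc0f61b_3.2, Cfsg.Agent.LsF.fc0f61b_12.2, Cfsg.Agent.LsF.fc0f61b_13.2])); decide +kernel)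

theorem real : OrdDiv.Real (.ominus 4 2) (↥(E Q) ⧸ center ↥(E Q)) := by
  refine ⟨ZMod 2, inferInstance, inferInstance, 1, 1, ZMod.card 2, aniso, ?_⟩
  have e := pomegaEquiv (good_minus (F := ZMod 2) (m := 3) (by norm_num) 1 1 aniso)
  rw [coe_minusForm] at e
  exact ⟨e.symm⟩

/-- **`Ω₈⁻(2)`** -/
theorem dat_o8m {N : Type} [Group N] (h : OrdDiv.Real (.ominus 4 2) N) : ∃ c, Tri N 2 3 c := by
  obtain ⟨e⟩ := H902.Iso.real_unique _ real h
  have hx := cod.tab cx
  have hy := cod.tab cy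
  refine ⟨_, Tri.congr e ⟨QuotientGroup.mk' _ (word Q dec lx), QuotientGroup.mk' _ (word Q dec ly), ?_, ?_, rfl, ?_⟩⟩
  · rw [← map_pow, cod.pow_one hx c2, map_one]
  · rw [← map_pow, cod.pow_one hy c3, map_one]
  · exact closure_pair_map _ (QuotientGroup.mk'_surjective _) (cod.top_of_chk hx hy ct)

end Cfsg.Agent.N2.Tg.O8m

private theorem dce_78a89b516863 : _root_.True := by
  try have : _root_.True := by simp only [_root_.Cfsg.Agent.N2.Tg.O8m.qn.eq_1]
  try have : _root_.True := by simp only [_root_.Cfsg.Agent.N2.Tg.O8m.dec.eq_1]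
  exact _root_.True.intro
end

-- part: N2/G2/ACon
section
set_option linter.all false
open scoped Cfsg.Agent.FastGrp

/-!
# N2, `G₂(q)` and `³D₄(q)`, box [A]: rational points of centralisers (helper52)

`NF X` : `F` has no fixed points on the fundamental group; `NF.cen` (after `KM/Ev/TD4`, with a small import closure).
-/

set_option autoImplicit false
set_option linter.unusedSectionVars false

namespace Cfsg.Agent.N2.G2.A

open Cfsg Cfsg.Agent.DL Cfsg.Agent.Nodes.Reps Cfsg.Agent.Nodes.BNOf Matrix Subgroup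
open Cfsg.Agent.TO.X.Cn (cl exists_exp χ_exp comm_exp exists_cl cl_add cl_smul cl_zero cl_sr WZ mem_WZ Tr stab_vec rf_exp)
open Cfsg.Agent.ChevalleyStructure.CoxeterGeom Cfsg.Agent.Tits.Roots Cfsg.Agent.DL.Base Cfsg.Agent.Nodes.SubComb

variable {p : ℕ} [Fact p.Prime] {k : Type} [Field k] [CharP k p] {Y : Type} [Group Y] {N : Type} [Fintype N]
  [DecidableEq N] {ρ : Y →* GL N k} {F : MulAut Y} {G : Subgroup Y} [IsAlgClosed k] (X : Datum p ρ F G)

/-- the coroot lattice -/
def Q : Submodule ℤ (X.R → ℤ) where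
  carrier := {v | ∃ β, v = cl X β}
  add_mem' := fun ⟨β, h⟩ ⟨γ, h'⟩ => ⟨β + γ, by rw [cl_add, h, h']⟩
  zero_mem' := ⟨0, (cl_zero X).symm⟩
  smul_mem' c _ := fun ⟨β, h⟩ => ⟨c • β, by rw [cl_smul, h]⟩

/-- no fixed points on the fundamental group -/
def NF : Prop := ∀ μ, X.Mx *ᵥ μ - μ ∈ Q X → μ ∈ Q X

variable {X} {w : X.W} {u μ : X.R → ℤ} {ζ : kˣ} {t y : Y}

theorem sub_mem_Q (w : X.W) (v : X.R → ℤ) : X.Wm w *ᵥ v - v ∈ Q X :=
  let ⟨β, h⟩ := exists_cl X v w
  ⟨β, sub_eq_of_eq_add' h⟩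

theorem cor_mem {a : X.I → ℤ} (ha : X.Rt a) : X.cor a ∈ Q X := by
  obtain ⟨v, i, rfl⟩ := ha
  rw [X.cor_act_sr]
  simpa only [sub_add_cancel] using add_mem (sub_mem_Q v (X.cw i)) (show X.cw i ∈ Q X from ⟨_, (cl_sr X i).symm⟩)

theorem fix_exp (h : F (X.τ (coch u ζ)) = X.τ (coch u ζ)) : ∃ ν, X.Mx *ᵥ u = u + (orderOf ζ : ℤ) • ν := by
  rw [X.F_τ, mon_coch] at h
  have h1 : ∀ j, (orderOf ζ : ℤ) ∣ (X.Mx *ᵥ u) j - u j := fun j => by
    rw [orderOf_dvd_iff_zpow_eq_one, _root_.zpow_sub, show ζ ^ (X.Mx *ᵥ u) j = ζ ^ u j from congrFun (X.τ_inj h) j,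
      mul_inv_cancel]
  choose κ hκ using h1
  exact ⟨κ, funext fun j => eq_add_of_sub_eq' (hκ j)⟩

attribute [local instance] fintypeSmp decSmp in
theorem mem_closure {Z : Set Y} (hZ : Z ⊆ X.T) (hF : ∀ z ∈ Z, F z ∈ Z) (h : w ∈ WZ X Z) :
    w ∈ closure (X.rf '' X.Sz Z) := by
  obtain ⟨x, h1, h2⟩ := h
  have h3 := fun a ha => X.g_mem_Sz hZ hF (a := a) ha
  obtain ⟨v, hv⟩ : x ∈ (X.sub hZ h3 rfl).NN := by
    rw [Datum.sub_NN]
    exact ⟨⟨w, h2⟩, h1⟩
  exact X.range_subW (Z := Z) ▸ ⟨v, X.rp_unique (X.rp_of_sub hZ h3 rfl hv) h2⟩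

theorem wz_iff (h0 : 0 < orderOf ζ) (hF : F (X.τ (coch u ζ)) = X.τ (coch u ζ))
    (h : X.Wm w *ᵥ u = u + (orderOf ζ : ℤ) • μ) : w ∈ WZ X {X.τ (coch u ζ)} ↔ μ ∈ Q X := by
  refine ⟨fun h1 => ?_, fun ⟨β, e⟩ => stab_vec X (Int.natCast_pos.2 h0) (e ▸ h) rf_exp⟩
  have h2 := mem_closure (Set.singleton_subset_iff.2 (X.τ_mem _)) (fun _ e => e ▸ hF) h1
  have h3 : Tr X (orderOf ζ) u w 0 := by
    clear h h1
    induction h2 using closure_induction with
    | mem _ h =>
      obtain ⟨a, ha, rfl⟩ := h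
      obtain ⟨c, hc⟩ := (χ_exp X a u ζ).1 (ha.2 _ rfl)
      obtain ⟨β, hβ⟩ := (Q X).smul_mem (-c) (cor_mem ha.1)
      refine ⟨β, ?_⟩
      rw [X.Wm_rf ha.1, sub_mulVec, one_mulVec, vecMulVec_mulVec, op_smul_eq_smul, hc, ← hβ]
      module
    | one => exact ⟨0, by rw [X.Wm_one, one_mulVec, cl_zero, add_zero, smul_zero, add_zero]⟩
    | mul _ _ _ _ h h' => simpa only [add_zero] using h.mul h'
    | inv _ _ h => simpa only [neg_zero] using h.inv
  obtain ⟨β, hβ⟩ := h3
  exact ⟨β, smul_right_injective _ (Int.natCast_pos.2 h0).ne' (add_left_cancel (h.symm.trans (hβ.trans (by rw [zero_add]))))⟩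

theorem NF.conj (h : NF X) (hy : y ∈ G) (hF : y⁻¹ * F y ∈ X.NN) : NF (X.conj hy hF) := fun μ e => by
  have h1 : (X.conj hy hF).Mx *ᵥ μ - X.Mx *ᵥ μ ∈ Q X := by
    rw [X.conj_Mx, ← mulVec_mulVec]
    exact sub_mem_Q _ _
  exact h μ (by simpa only [sub_sub_sub_cancel_left] using sub_mem (show _ ∈ Q X from e) h1)

/-- rational elements of the centraliser lie in the connected centraliser -/
theorem NF.cen (h : NF X) (ht : t ∈ X.T) (h1 : F t = t) (hy : y ∈ GF F G) (h2 : y * t = t * y) : y ∈ X.cen {t} := by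
  have hZ := Set.singleton_subset_iff.2 ht
  obtain ⟨c, hc, m, ⟨w, hm⟩, h3, rfl⟩ := X.exists_cen_form hZ hy.1 (mem_centralizer_singleton_iff.2 h2)
  have h4 : F m * m⁻¹ ∈ X.cen {t} := by
    have h4 := (mem_GF.1 hy).2
    rw [map_mul] at h4
    rw [eq_inv_mul_of_mul_eq h4, mul_assoc, mul_inv_cancel_right]
    exact X.S_le_cen _ (mul_mem (inv_mem (X.F_mem_S X.Sz_root (fun _ => X.g_mem_Sz hZ fun _ e => e ▸ h1) hc)) hc)
  obtain ⟨ζ, v, h0, -, rfl⟩ := exists_exp X ht
  obtain ⟨ν, hν⟩ := fix_exp h1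
  choose μ hμ using comm_exp X hm h3
  have h5 : X.Wm w *ᵥ v = v + (orderOf ζ : ℤ) • μ := funext fun j => eq_add_of_sub_eq' (hμ j)
  obtain ⟨δ, hδ⟩ := neg_mem (sub_mem_Q (X.Fw w) ν)
  have h6 : Tr X (orderOf ζ) v (X.Fw w) (X.Mx *ᵥ μ) := ⟨δ, by
    have h6 := congrArg (· *ᵥ v) (X.Mx_Wm w)
    simp only [← mulVec_mulVec, h5, hν, mulVec_add, mulVec_smul] at h6
    rw [← hδ]
    linear_combination (norm := module) -h6⟩
  obtain ⟨β, hβ⟩ := h6.mul (Tr.inv (μ := μ) ⟨0, by rw [cl_zero, add_zero, h5]⟩)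
  have h7 := sub_mem ((wz_iff h0 h1 hβ).1 ((mem_WZ X ((Datum.Rp.mapF hm).mul hm.inv)).2 h4)) (show _ ∈ Q X from ⟨β, rfl⟩)
  rw [add_sub_cancel_right, ← sub_eq_add_neg] at h7
  exact mul_mem (X.S_le_cen _ hc) ((mem_WZ X hm).1 ((wz_iff h0 h1 h5).2 (h μ h7)))

/-- two commuting rational `p'`-elements lie in a common rational torus -/
theorem NF.two (h : NF X) {s : Y} (hs : s ∈ GF F G) (ht : t ∈ GF F G) (h1 : ¬ p ∣ orderOf s) (h2 : ¬ p ∣ orderOf t)
    (hc : s * t = t * s) : ∃ g, g * s * g⁻¹ ∈ X.T ∧ g * t * g⁻¹ ∈ X.T := by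
  obtain ⟨y, hy, hF, h3⟩ := TO.E6.exists_frame X ht h2
  have hZ := Set.singleton_subset_iff.2 h3
  obtain ⟨z, hz, -, h4⟩ := TO.E6.exists_frame_cen (X.conj hy hF) hZ (fun _ e => e ▸ ht.2)
    ((h.conj hy hF).cen h3 ht.2 hs hc) hs.2 h1
  have h5 : z⁻¹ * t * z = t := by
    rw [mul_assoc, (X.conj hy hF).cen_le_centralizer hZ hz t rfl, inv_mul_cancel_left]
  refine ⟨y⁻¹ * z⁻¹, ?_, ?_⟩
  · simpa only [_root_.mul_inv_rev, inv_inv, mul_assoc] using mem_cj.1 h4
  · simpa only [_root_.mul_inv_rev, inv_inv, mul_assoc] using mem_cj.1 (h5.symm ▸ h3 : z⁻¹ * t * z ∈ _)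

end Cfsg.Agent.N2.G2.A
end

-- part: N2/Tri/U43
section
set_option linter.all false
open scoped Cfsg.Agent.FastGrp

/-!
# N2 (S3519): triples of `U₄(3)` (helper10)
-/

set_option autoImplicit false

namespace Cfsg.Agent.N2.Tg.U43

open Cfsg Subgroup Cfsg.Agent.TwoF.XL.U43 Cfsg.Agent.MK.U43.GT

theorem ord7 {l : List ℕ} (h : eqB (pw l 7) [] = true) (h' : eqB l [] = false) : orderOf (Wm l) = 7 := by
  have : Fact (Nat.Prime 7) := ⟨by norm_num⟩
  exact orderOf_eq_prime ((Wm_pw l 7).symm.trans (Wm_eq h)) (Wm_ne h')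

theorem Wm_mem {H : Subgroup M} (s : List (List ℕ)) (h : ∀ l ∈ s, Wm l ∈ H) :
    ∀ u : List ℕ, Wm (u.flatMap fun i => s.getD i []) ∈ H
  | [] => H.one_mem
  | i :: u => by
    rw [List.flatMap_cons, Wm_append]
    refine H.mul_mem ?_ (Wm_mem s h u)
    by_cases k : i < s.length
    · rw [List.getD_eq_getElem _ _ k]
      exact h _ (List.getElem_mem k)
    · rw [List.getD_eq_default _ _ (by omega)]
      exact H.one_mem

theorem tri_of (x y : List ℕ) (a b : ℕ) (u v : List ℕ) (h1 : eqB (pw x a) [] = true) (h2 : eqB (pw y b) [] = true)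
    (h3 : eqB (pw (x ++ y) 7) [] = true) (h4 : eqB (x ++ y) [] = false)
    (h5 : eqB (u.flatMap fun i => [x, y, pw y (b - 1)].getD i []) [0] = true)
    (h6 : eqB (v.flatMap fun i => [x, y, pw y (b - 1)].getD i []) [2] = true) : Tri M a b 7 := by
  have k : ∀ l ∈ [x, y, pw y (b - 1)], Wm l ∈ closure {Wm x, Wm y} := by
    simp only [List.mem_cons, List.not_mem_nil, or_false, forall_eq_or_imp, forall_eq, Wm_pw]
    exact ⟨subset_closure (by simp), subset_closure (by simp), pow_mem (subset_closure (by simp)) _⟩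
  exact ⟨Wm x, Wm y, (Wm_pw _ _).symm.trans (Wm_eq h1), (Wm_pw _ _).symm.trans (Wm_eq h2), Wm_append x y ▸ ord7 h3 h4,
    eq_top_of_gens (Wm_eq h5 ▸ Wm_mem _ k u) (Wm_eq h6 ▸ Wm_mem _ k v)⟩

theorem t257 : Tri M 2 5 7 := tri_of [2] [2, 0, 0, 2, 1, 2, 0, 0] 2 5
  [1, 0, 2, 2, 0, 1, 0, 1, 1, 0, 2, 2, 0, 1, 1, 0, 2, 2, 0, 1] [0] (by decide +kernel) (by decide +kernel) (by decide +kernel)
  (by decide +kernel) (by decide +kernel) (by decide +kernel)

theorem t267 : Tri M 2 6 7 := tri_of [2] [2, 0, 2, 0] 2 6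
  [2, 0, 1, 0, 1, 0, 1, 1, 0, 2, 0, 1, 1, 0, 1, 1, 1, 0, 1, 0, 1, 1, 0, 1, 0, 1, 0] [0] (by decide +kernel) (by decide +kernel)
  (by decide +kernel) (by decide +kernel) (by decide +kernel) (by decide +kernel)

theorem cj : Cj M 7 2 := by
  refine ⟨Wm [0], ord7 (by decide +kernel) (by decide +kernel),
    isConj_iff.2 ⟨Wm [2, 1, 1, 2, 0, 2, 1, 1, 2, 1, 2, 0, 0, 0, 2, 0, 2], ?_⟩⟩
  rw [mul_inv_eq_iff_eq_mul, ← Wm_pw, ← Wm_append, ← Wm_append]
  exact Wm_eq (by decide +kernel)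

theorem sc : SC M 7 := by
  have h : orderOf (rep 12) = 7 := ord_rep (by norm_num)
  refine ⟨rep 12, h, (eq_of_le_of_card_ge (zpowers_le.2 (mem_centralizer_singleton_iff.2 rfl)) ?_).ge⟩
  rw [Nat.card_zpowers, h]
  exact cent_le 12

/-- **`U₄(3)`** -/
theorem dat_u43 {N : Type} [Group N] (h : OrdDiv.Real (.psu 4 3) N) : Tri N 2 5 7 ∧ Tri N 2 6 7 ∧ Cj N 7 2 ∧ SC N 7 := by
  obtain ⟨F, _, _, hF, ⟨e⟩⟩ := h
  obtain ⟨e'⟩ := iso hF
  exact ⟨t257.congr (e.trans e').symm, t267.congr (e.trans e').symm, cj.congr (e.trans e').symm, sc.congr (e.trans e').symm⟩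

end Cfsg.Agent.N2.Tg.U43
end

-- part: SB/SporD/Fi/Two_mg
section

end

-- part: SB/SporD/Fi/D22
section
set_option linter.all false
open scoped Cfsg.Agent.FastGrp

/-!
# S5765, the row `Fi22`: `BoxD22` (helper78)
-/

set_option autoImplicit false

namespace Cfsg.Agent.SB.SporD.Fi

namespace D22

open Subgroup Cfsg Cfsg.Spor Cfsg.Spor.Fi22 Cfsg.Agent.Lib.PermNet Cfsg.Agent.Lib.PermNetOrbit
open Cfsg.Agent.Fischer Cfsg.Agent.Fischer.Fi22PtsRep Cfsg.Agent.H834 Cfsg.Agent.R01.FiFusion Cfsg.Agent.R01.FiFacts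
open Cfsg.Agent.Fischer.Fi22Order (nws nws_ok)
open Cfsg.Agent.OddHalf.D8.Fi22 (KTrans)

variable {G : Type*} [Group G] {D : Set G}

/-- orders two, three, five -/
structure NS (u v : G) : Prop where
  two : u ^ 2 = 1
  three : v ^ 3 = 1
  five : (u * v) ^ 5 = 1
  ne : u ≠ 1

theorem NS.conj {u v : G} (h : NS u v) (k : G) : NS (k * u * k⁻¹) (k * v * k⁻¹) where
  two := by rw [conj_pow, h.two, mul_one, mul_inv_cancel]
  three := by rw [conj_pow, h.three, mul_one, mul_inv_cancel]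
  five := by rw [conj_mul, conj_pow, h.five, mul_one, mul_inv_cancel]
  ne := fun e => h.ne (by rw [← conj_eq_one_iff (a := k)]; exact e)

theorem NS.not_solv {u v : G} (h : NS u v) {S : Subgroup G} (hu : u ∈ S) (hv : v ∈ S) : ¬ Group.IsSolvable S :=
  fun hS => h.ne (Spor.eq_one_of_coprime hS hu hv h.two h.three h.five rfl rfl rfl)

/-- `u` maps `S` into itself -/
def Pres (u : G) (S : Set G) : Prop := ∀ x ∈ S, u * x * u⁻¹ ∈ S

theorem Pres.norm [Finite G] {u : G} {S : Set G} (h : Pres u S) : u ∈ normalizer (closure S : Set G) := by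
  refine mem_normalizer_fintype fun x hx => ?_
  have h1 : closure S ≤ (closure S).comap (MulAut.conj u).toMonoidHom := by
    rw [closure_le]
    exact fun y hy => subset_closure (h y hy)
  exact h1 hx

/-- the goal for `E` -/
def Gd (D E : Set G) : Prop := ∃ u v, NS u v ∧ Pres u (CD D E) ∧ Pres v (CD D E)

/-- the conjugate set -/
def cj (k : G) (E : Set G) : Set G := {x | k * x * k⁻¹ ∈ E}

theorem comm_conj (k : G) {x y : G} (h : Commute x y) : Commute (k * x * k⁻¹) (k * y * k⁻¹) := by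
  have h1 := h.map (MulAut.conj k)
  exact h1

theorem comm_of_conj (k : G) {x y : G} (h : Commute (k * x * k⁻¹) (k * y * k⁻¹)) : Commute x y := by
  have h1 := comm_conj k⁻¹ h
  simpa [mul_assoc] using h1

section abs

variable (K : KTrans G D)
include K

theorem mem_of_conj {k x : G} (h : k * x * k⁻¹ ∈ D) : x ∈ D := by
  have h1 := K.conj k⁻¹ _ h
  simpa [mul_assoc] using h1

theorem mem_cd_cj {k x : G} {E : Set G} : x ∈ CD D (cj k E) ↔ k * x * k⁻¹ ∈ CD D E := by
  constructor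
  · rintro ⟨h1, h2⟩
    refine ⟨K.conj k x h1, fun e he => ?_⟩
    have h3 := comm_conj k (h2 (k⁻¹ * e * k) (by simpa [cj, mul_assoc] using he))
    simpa [mul_assoc] using h3
  · rintro ⟨h1, h2⟩
    exact ⟨mem_of_conj K h1, fun e he => comm_of_conj k (h2 _ he)⟩

theorem Gd.of_cj {k : G} {E : Set G} (h : Gd D (cj k E)) : Gd D E := by
  obtain ⟨u, v, h1, h2, h3⟩ := h
  have key : ∀ w, Pres w (CD D (cj k E)) → Pres (k * w * k⁻¹) (CD D E) := fun w hw y hy => by
    have h4 := (mem_cd_cj K).1 (hw (k⁻¹ * y * k) ((mem_cd_cj K).2 (by simpa [mul_assoc] using hy)))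
    simpa [mul_assoc] using h4
  exact ⟨_, _, h1.conj k, key u h2, key v h3⟩

theorem pres_of_comm {u : G} {E : Set G} (h : ∀ e ∈ E, Commute u e) : Pres u (CD D E) := by
  rintro x ⟨h1, h2⟩
  refine ⟨K.conj u x h1, fun e he => ?_⟩
  have h3 := comm_conj u (h2 e he)
  rwa [(h e he).eq, mul_inv_cancel_right] at h3

end abs

theorem xor_tb (x y q : ℕ) (h1 : x.testBit q = true) (h2 : y.testBit q = false) : (Nat.xor x y).testBit q = true := by
  show (x ^^^ y).testBit q = true
  rw [Nat.testBit_xor, h1, h2]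
  rfl

theorem lor_tb (x y q : ℕ) (h1 : x.testBit q = false) (h2 : y.testBit q = false) : (Nat.lor x y).testBit q = false := by
  show (x ||| y).testBit q = false
  rw [Nat.testBit_or, h1, h2]
  rfl

section model

variable (m : Model G D)

theorem cmk_iff {c : List Gen × Gen} {q : ℕ} (hq : q < 3510) :
    (cmk c).testBit q = true ↔ Commute (m.t (twp c)) (m.t q) := by
  rw [m.testBit_cmk hq, m.fix_iff hq]
  rfl

theorem inter_iff {l : List (List Gen × Gen)} {q : ℕ} (hq : q < 3510) :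
    (interB l full).testBit q = true ↔ ∀ c ∈ l, Commute (m.t (twp c)) (m.t q) := by
  rw [testBit_interB, testBit_full, decide_eq_true hq]
  exact ⟨fun h c hc => (cmk_iff m hq).1 (h.2 c hc), fun h => ⟨rfl, fun c hc => (cmk_iff m hq).2 (h c hc)⟩⟩

theorem ns_of {u v : List Gen} (h2 : checkEq 12 (wpow (nw u) 2) [] = true) (h3 : checkEq 12 (wpow (nw v) 3) [] = true)
    (h5 : checkEq 12 (wpow (nw (u ++ v)) 5) [] = true) {p : ℕ} (hp : Nat.beq (ptWord (nw u) p) p = false) :
    NS (m.wd u) (m.wd v) := by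
  have key : ∀ (w : List Gen) (n : ℕ), checkEq 12 (wpow (nw w) n) [] = true → m.wd w ^ n = 1 := fun w n h => by
    apply m.φ_injective
    rw [map_pow, m.φ_wd, Fi22PtsRep.pow_eq_one h, map_one]
  refine ⟨key _ _ h2, key _ _ h3, by rw [← m.wd_append]; exact key _ _ h5, fun h => ?_⟩
  have h1 := m.φ_wd_apply u p
  rw [h, map_one, Equiv.Perm.one_apply] at h1
  exact Nat.ne_of_beq_eq_false hp h1.symm

theorem ns0 : NS (m.wd u0) (m.wd v0) := ns_of m ord_u0 ord_v0 ord_uv0 ne_u0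

theorem ns1 : NS (m.wd u1) (m.wd v1) := ns_of m ord_u1 ord_v1 ord_uv1 ne_u1

theorem fix0 {p : ℕ} (hp : p ∈ [0, 2, 6]) : Commute (m.wd u0) (m.t p) ∧ Commute (m.wd v0) (m.t p) := by
  have hlt : p < 3510 := by
    simp only [List.mem_cons, List.not_mem_nil, or_false] at hp
    omega
  have h1 := fixAllB_spec (nws_ok _) chk8 p hp
  constructor
  · exact (m.comm_iff _ hlt).2 (by rw [m.φ_wd]; exact h1 _ (List.mem_map_of_mem (by simp)))
  · exact (m.comm_iff _ hlt).2 (by rw [m.φ_wd]; exact h1 _ (List.mem_map_of_mem (by simp)))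

/-- `CD D E` is given by a closed mask -/
theorem gd_of_mask {E : Set G} {M : ℕ} (hM : closedB (nws [u1, v1]) M = true)
    (h : ∀ q < 3510, m.t q ∈ CD D E ↔ M.testBit q = true) : Gd D E := by
  have key : ∀ w ∈ [u1, v1], Pres (m.wd w) (CD D E) := fun w hw x hx => by
    obtain ⟨q, hq, rfl⟩ := m.mem_iff.1 hx.1
    rw [m.conj_t _ hq, h _ (m.φ_lt _ hq), m.φ_wd, closedB_spec (nws_ok _) hM _ (List.mem_map_of_mem hw)]
    exact (h q hq).1 hx
  exact ⟨_, _, ns1 m, key _ (by simp), key _ (by simp)⟩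

/-- `E` contains the points of `l` and is contained in the list `L` -/
theorem gd_of_list {E : Set G} {l L : List (List Gen × Gen)} {M : ℕ} (h0 : M = interB l full)
    (hM : closedB (nws [u1, v1]) M = true) (hL : Nat.beq (interB L M) M = true) (hl : ∀ c ∈ l, m.t (twp c) ∈ E)
    (hE : ∀ e ∈ E, ∃ c ∈ L, e = m.t (twp c)) : Gd D E := by
  subst h0
  refine gd_of_mask m hM fun q hq => ⟨fun h => ?_, fun h => ⟨m.t_mem hq, fun e he => ?_⟩⟩
  · exact (inter_iff m hq).2 fun c hc => (h.2 _ (hl c hc)).symm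
  · obtain ⟨c, hc, rfl⟩ := hE e he
    rw [← Nat.eq_of_beq_eq_true hL, testBit_interB] at h
    exact ((cmk_iff m hq).1 (h.2 c hc)).symm

theorem gd_four {E : Set G} (hD : E ⊆ D) (hc : ∀ a ∈ E, ∀ b ∈ E, Commute a b) (h0 : m.t 0 ∈ E) (h6 : m.t 6 ∈ E)
    (h40 : m.t 40 ∈ E) (h43 : m.t 43 ∈ E) : Gd D E := by
  have hl : ∀ c ∈ [(([] : List Gen), Gen.a), ([], .c), ([], .e), ([], .h)], m.t (twp c) ∈ E := by
    intro c hc
    simp only [List.mem_cons, List.not_mem_nil, or_false] at hc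
    rcases hc with rfl | rfl | rfl | rfl
    exacts [h0, h6, h40, h43]
  refine gd_of_list m (by rw [K4]) chk7 chk4 hl fun e he => ?_
  obtain ⟨q, hq, rfl⟩ := m.mem_iff.1 (hD he)
  have h1 : K4.testBit q = true := by
    unfold K4
    exact (inter_iff m hq).2 fun c hc' => hc _ (hl c hc') _ he
  obtain ⟨c, hc', h2⟩ := exists_of_msk (testBit_of_land chk5 h1)
  exact ⟨c, hc', by rw [h2]⟩

theorem gd_three (K : KTrans G D) {E : Set G} (hD : E ⊆ D) (hc : ∀ a ∈ E, ∀ b ∈ E, Commute a b) (h0 : m.t 0 ∈ E)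
    (h6 : m.t 6 ∈ E) (h40 : m.t 40 ∈ E) : Gd D E := by
  have hl : ∀ c ∈ [(([] : List Gen), Gen.a), ([], .c), ([], .e)], m.t (twp c) ∈ E := by
    intro c hc
    simp only [List.mem_cons, List.not_mem_nil, or_false] at hc
    rcases hc with rfl | rfl | rfl
    exacts [h0, h6, h40]
  by_cases hE : ∀ e ∈ E, ∃ c ∈ Hl, e = m.t (twp c)
  · exact gd_of_list m (by rw [K3]) chk6 chk3 hl hE
  push Not at hE
  obtain ⟨e, he, hne⟩ := hE
  obtain ⟨q, hq, rfl⟩ := m.mem_iff.1 (hD he)
  have h1 : K3.testBit q = true := by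
    unfold K3
    exact (inter_iff m hq).2 fun c hc' => hc _ (hl c hc') _ he
  have h2 : (msk Hl).testBit q = false := by
    rw [← Bool.not_eq_true]
    intro h
    obtain ⟨c, hc', h3⟩ := exists_of_msk h
    exact hne c hc' (by rw [h3])
  obtain ⟨k, -, h3, h4⟩ := m.reach (H := ⊤) (fun _ _ => mem_top _) chk2 (q := q) (xor_tb _ _ _ h1 h2)
  have h5 : ∀ p < 3510, m.t (m.φ k p) ∈ E → m.t p ∈ cj k E := fun p hp h => by
    show k * m.t p * k⁻¹ ∈ E
    rwa [m.conj_t _ hp]
  refine Gd.of_cj K (k := k) (gd_four m (fun x hx => mem_of_conj K (hD hx))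
    (fun x hx y hy => comm_of_conj k (hc _ hx _ hy)) (h5 _ (by norm_num) ?_) (h5 _ (by norm_num) ?_)
    (h5 _ (by norm_num) ?_) (h5 _ (by norm_num) ?_))
  · rwa [h3 0 (by simp)]
  · rwa [h3 6 (by simp)]
  · rwa [h3 40 (by simp)]
  · rwa [h4]

theorem t_ne {p q : ℕ} (hp : p < 3510) (hq : q < 3510) (h : p ≠ q) : m.t p ≠ m.t q := fun e => h (m.t_inj hp hq e)

theorem c06 : Commute (m.t 0) (m.t 6) := (cmk_iff m (c := ([], .a)) (by norm_num)).1 com_ac

include m in
theorem gd (K : KTrans G D) {E : Set G} (hD : E ⊆ D) (hne : E.Nonempty) (hc : ∀ a ∈ E, ∀ b ∈ E, Commute a b) :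
    Gd D E := by
  have m0 := m.t_mem (p := 0) (by norm_num)
  have m6 := m.t_mem (p := 6) (by norm_num)
  by_cases h3 : ∃ x ∈ E, ∃ y ∈ E, ∃ z ∈ E, x ≠ y ∧ x ≠ z ∧ y ≠ z
  · obtain ⟨x, hx, y, hy, z, hz, n1, n2, n3⟩ := h3
    obtain ⟨k, h1, h2, h4⟩ := K.trans3 _ m0 _ m6 _ (m.t_mem (p := 40) (by norm_num)) x (hD hx) y (hD hy) z (hD hz)
      (t_ne m (by norm_num) (by norm_num) (by norm_num)) (t_ne m (by norm_num) (by norm_num) (by norm_num))
      (t_ne m (by norm_num) (by norm_num) (by norm_num)) n1 n2 n3 (c06 m)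
      ((cmk_iff m (c := ([], .a)) (by norm_num)).1 com_ae) ((cmk_iff m (c := ([], .c)) (by norm_num)).1 com_ce)
      (hc _ hx _ hy) (hc _ hx _ hz) (hc _ hy _ hz)
    refine Gd.of_cj K (k := k) (gd_three m K (fun x hx => mem_of_conj K (hD hx))
      (fun x hx y hy => comm_of_conj k (hc _ hx _ hy)) ?_ ?_ ?_)
    · show _ ∈ E
      rwa [h1]
    · show _ ∈ E
      rwa [h2]
    · show _ ∈ E
      rwa [h4]
  obtain ⟨x, hx, y, hy, n, cxy, hE⟩ : ∃ x ∈ D, ∃ y ∈ D, x ≠ y ∧ Commute x y ∧ ∀ e ∈ E, e = x ∨ e = y := by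
    obtain ⟨x, hx⟩ := hne
    by_cases h2 : ∃ y ∈ E, x ≠ y
    · obtain ⟨y, hy, n⟩ := h2
      refine ⟨x, hD hx, y, hD hy, n, hc _ hx _ hy, fun e he => ?_⟩
      by_contra h4
      rw [not_or] at h4
      exact h3 ⟨x, hx, y, hy, e, he, n, Ne.symm h4.1, Ne.symm h4.2⟩
    · obtain ⟨y, hy, n, -, cy, -⟩ := K.nb x (hD hx) x (hD hx)
      refine ⟨x, hD hx, y, hy, n.symm, cy.symm, fun e he => Or.inl ?_⟩
      by_contra h4
      exact h2 ⟨e, he, Ne.symm h4⟩
  obtain ⟨k, h1, h2⟩ := K.trans2 _ m0 _ m6 x hx y hy (t_ne m (by norm_num) (by norm_num) (by norm_num)) n (c06 m) cxy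
  have h4 : ∀ e ∈ cj k E, Commute (m.wd u0) e ∧ Commute (m.wd v0) e := fun e he => by
    rcases hE _ he with h | h
    · rw [← h1] at h
      rw [mul_left_cancel (mul_right_cancel h)]
      exact fix0 m (by simp)
    · rw [← h2] at h
      rw [mul_left_cancel (mul_right_cancel h)]
      exact fix0 m (by simp)
  exact Gd.of_cj K (k := k) ⟨_, _, ns0 m, pres_of_comm K fun e he => (h4 e he).1, pres_of_comm K fun e he => (h4 e he).2⟩

include m in
theorem tri (K : KTrans G D) {x y z : G} (hx : x ∈ D) (hy : y ∈ D) (hz : z ∈ D) (n : x ≠ z) (cxz : Commute x z)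
    (cxy : ¬ Commute x y) (czy : ¬ Commute z y) : ¬ Group.IsSolvable (centralizer ({x, y, z} : Set G)) := by
  obtain ⟨k, rfl, rfl⟩ := K.trans2 _ (m.t_mem (p := 0) (by norm_num)) _ (m.t_mem (p := 6) (by norm_num)) x hx z hz
    (t_ne m (by norm_num) (by norm_num) (by norm_num)) n (c06 m) cxz
  obtain ⟨q, hq, h1⟩ := m.mem_iff.1 (K.conj k⁻¹ y hy)
  have h2 : y = k * m.t q * k⁻¹ := by rw [← h1]; group
  subst h2
  have h3 : (cmk ([], .a)).testBit q = false := by
    rw [← Bool.not_eq_true, cmk_iff m hq]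
    exact fun h => cxy (comm_conj k h)
  have h4 : (cmk ([], .c)).testBit q = false := by
    rw [← Bool.not_eq_true, cmk_iff m hq]
    exact fun h => czy (comm_conj k h)
  obtain ⟨l, -, h5, h6⟩ := m.reach (H := ⊤) (fun _ _ => mem_top _) chk1 (q := q)
    (xor_tb _ _ _ (by rw [testBit_full, decide_eq_true hq]) (lor_tb _ _ _ h3 h4))
  have key : ∀ w : G, (∀ p ∈ [0, 2, 6], Commute w (m.t p)) →
      k * (l * w * l⁻¹) * k⁻¹ ∈ centralizer ({k * m.t 0 * k⁻¹, k * m.t q * k⁻¹, k * m.t 6 * k⁻¹} : Set G) := by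
    intro w hw s hs
    have h7 := comm_conj l (hw 0 (by simp))
    have h8 := comm_conj l (hw 2 (by simp))
    have h9 := comm_conj l (hw 6 (by simp))
    rw [m.conj_t _ (by norm_num)] at h7 h8 h9
    rw [h5 0 (by simp)] at h7
    rw [h6] at h8
    rw [h5 6 (by simp)] at h9
    rcases hs with rfl | rfl | rfl
    exacts [(comm_conj k h7).symm, (comm_conj k h8).symm, (comm_conj k h9).symm]
  exact (((ns0 m).conj l).conj k).not_solv (key _ fun p hp => (fix0 m hp).1) (key _ fun p hp => (fix0 m hp).2)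

end model

/-! ### the factors of an involution -/

theorem rot {x y z s : G} (ht : Tri D x y z) (hs : s = x ∨ s = y ∨ s = z) :
    ∃ p q, Tri D s p q ∧ s * p * q = x * y * z ∧ (p = x ∨ p = y ∨ p = z) ∧ (q = x ∨ q = y ∨ q = z) := by
  rcases hs with rfl | rfl | rfl
  · exact ⟨y, z, ht, rfl, by simp, by simp⟩
  · exact ⟨x, z, ⟨ht.my, ht.mx, ht.mw, ht.xy.symm, ht.yw, ht.xw, ht.cxy.symm, ht.cyw, ht.cxw⟩, by rw [ht.cxy],
      by simp, by simp⟩
  · refine ⟨x, y, ⟨ht.mw, ht.mx, ht.my, ht.xw.symm, ht.yw.symm, ht.xy, ht.cxw.symm, ht.cyw.symm, ht.cxy⟩, ?_,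
      by simp, by simp⟩
    rw [← ht.cxw, mul_assoc, ← ht.cyw, mul_assoc]

theorem tri_ne (hT : IsThreeTranspositionSet D) (hN : H831.Short.NoRel D 5) {p q k x y : G} (ht : Tri D p q k)
    (hx : x ∈ D) (hy : y ∈ D) (n : x ≠ y) (cxy : Commute x y) : p * q * k ≠ x * y := by
  intro h
  have e1 : Commute p q := ht.cxy
  have e2 : Commute p k := ht.cxw
  have e3 : Commute q k := ht.cyw
  have h3 : H815.InvM.IsProd D 3 (x * y) := by
    refine ⟨[p, q, k], ?_, rfl, ?_, ?_, by rw [← h]; simp [mul_assoc]⟩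
    · simp only [List.nodup_cons, List.mem_cons, List.not_mem_nil, or_false, not_or, List.nodup_nil, and_true,
        not_false_eq_true]
      exact ⟨⟨ht.xy, ht.xw⟩, ht.yw⟩
    · simp only [List.mem_cons, List.not_mem_nil, or_false]
      rintro w (rfl | rfl | rfl)
      exacts [ht.mx, ht.my, ht.mw]
    · simp only [List.mem_cons, List.not_mem_nil, or_false]
      rintro v (rfl | rfl | rfl) w (rfl | rfl | rfl) <;>
        first | exact Commute.refl _ | assumption | (apply Commute.symm; assumption)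
  have h2 : H815.InvM.IsProd D 2 (x * y) := by
    refine ⟨[x, y], by simpa using n, rfl, ?_, ?_, by simp⟩
    · simp only [List.mem_cons, List.not_mem_nil, or_false]
      rintro w (rfl | rfl)
      exacts [hx, hy]
    · simp only [List.mem_cons, List.not_mem_nil, or_false]
      rintro v (rfl | rfl) w (rfl | rfl) <;>
        first | exact Commute.refl _ | assumption | (apply Commute.symm; assumption)
  exact absurd (H815.InvM.IsProd.unique hT hN le_rfl (by norm_num) h3 h2) (by norm_num)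

theorem key_ne (F : TFacts D) (hT : IsThreeTranspositionSet D) (hN : H831.Short.NoRel D 5) {x y z s k : G}
    (ht : Tri D x y z) (hs : s = x ∨ s = y ∨ s = z) (hk : k ∈ D)
    (hc : ∀ w, (w = x ∨ w = y ∨ w = z) → Commute w k) {p q : G} (hp : p ∈ D) (hq : q ∈ D) (n : p ≠ q)
    (cpq : Commute p q) : x * y * z * s * k ≠ p * q := by
  obtain ⟨v, w, h1, h2, hv, hw⟩ := rot ht hs
  have h3 : x * y * z * s = v * w := by
    rw [← h2, mul_assoc (s * v), ← h1.cxw, ← mul_assoc, mul_assoc s, ← h1.cxy, ← mul_assoc s, F.sq s h1.mx, one_mul]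
  rw [h3]
  by_cases h4 : k = v
  · rw [h4, h1.cyw, mul_assoc, F.sq v h1.my, mul_one]
    exact fun h => F.two p hp q hq n cpq (h ▸ h1.mw)
  by_cases h5 : k = w
  · rw [h5, mul_assoc, F.sq w h1.mw, mul_one]
    exact fun h => F.two p hp q hq n cpq (h ▸ h1.my)
  exact tri_ne hT hN ⟨h1.my, h1.mw, hk, h1.yw, Ne.symm h4, Ne.symm h5, h1.cyw, hc v hv, hc w hw⟩ hp hq n cpq

theorem invol (I : H836.Inv G D) (hT : IsThreeTranspositionSet D) (hN : H831.Short.NoRel D 5) (r : G) (hr : r * r = 1)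
    (h1 : r ≠ 1) (hD : r ∉ D) : ∃ H : Finset G, (∀ s ∈ H, s ∈ D) ∧ (∀ s ∈ H, ∀ k ∈ H, Commute s k) ∧
    ¬ 4 ∣ H.card ∧ (∀ w : G, Commute w r → ∀ s ∈ H, w * s * w⁻¹ ∈ H) ∧
      ∀ s ∈ H, ∀ k ∈ H, s ≠ k → ∀ x ∈ D, ∀ y ∈ D, x ≠ y → Commute x y → r * s * k ≠ x * y := by
  classical
  have F := I.facts
  rcases I.inv r hr with h | h | ⟨p, hp, q, hq, n, cpq, rfl⟩ | ⟨x, y, z, ht, rfl⟩
  · exact absurd h h1
  · exact absurd h hD
  · have cpq' : Commute p q := cpq
    refine ⟨{p, q}, ?_, ?_, by rw [Finset.card_pair n]; norm_num, fun w hw => ?_, ?_⟩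
    · simp only [Finset.mem_insert, Finset.mem_singleton]
      rintro s (rfl | rfl) <;> assumption
    · simp only [Finset.mem_insert, Finset.mem_singleton]
      rintro s (rfl | rfl) k (rfl | rfl) <;>
        first | exact Commute.refl _ | assumption | (apply Commute.symm; assumption)
    · simp only [Finset.mem_insert, Finset.mem_singleton]
      have h2 : p * q = w * p * w⁻¹ * (w * q * w⁻¹) := by rw [conj_mul, hw.eq, mul_inv_cancel_right]
      rintro s (rfl | rfl)
      · exact I.uniq_pair hp hq (F.conj w _ hp) (F.conj w _ hq) n cpq (comm_conj w cpq') h2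
      · exact I.uniq_pair hp hq (F.conj w _ hq) (F.conj w _ hp) n cpq (comm_conj w cpq'.symm)
          (h2.trans (comm_conj w cpq'))
    · simp only [Finset.mem_insert, Finset.mem_singleton]
      have h2 : ∀ s k, s * k = p * q → ∀ x ∈ D, ∀ y ∈ D, x ≠ y → Commute x y → p * q * s * k ≠ x * y := by
        intro s k e x hx y hy nxy _ h
        rw [mul_assoc, e, hr] at h
        exact nxy (by rw [eq_inv_of_mul_eq_one_left h.symm, inv_eq_of_mul_eq_one_left (F.sq y hy)])
      rintro s (rfl | rfl) k (rfl | rfl) nsk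
      · exact absurd rfl nsk
      · exact h2 _ _ rfl
      · exact h2 _ _ cpq.symm
      · exact absurd rfl nsk
  · obtain ⟨x', y', z', H⟩ := F.hex x y z ht
    have ht' := H.t'
    have hr' : x' * y' * z' = x * y * z := mul_left_cancel (H.prod.trans hr.symm)
    have hmem : ∀ s, s ∈ ({x, y, z, x', y', z'} : Finset G) ↔
        (s = x ∨ s = y ∨ s = z) ∨ (s = x' ∨ s = y' ∨ s = z') := by
      intro s
      simp only [Finset.mem_insert, Finset.mem_singleton, or_assoc]
    have hD' : ∀ s ∈ ({x, y, z, x', y', z'} : Finset G), s ∈ D := by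
      intro s hs
      rcases (hmem s).1 hs with (rfl | rfl | rfl) | (rfl | rfl | rfl)
      exacts [ht.mx, ht.my, ht.mw, ht'.mx, ht'.my, ht'.mw]
    have hcm : ∀ s ∈ ({x, y, z, x', y', z'} : Finset G), ∀ k ∈ ({x, y, z, x', y', z'} : Finset G), Commute s k := by
      have c1 : Commute x y := ht.cxy
      have c2 : Commute x z := ht.cxw
      have c3 : Commute y z := ht.cyw
      have c4 : Commute x' y' := ht'.cxy
      have c5 : Commute x' z' := ht'.cxw
      have c6 : Commute y' z' := ht'.cyw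
      have d1 : Commute x x' := H.caa
      have d2 : Commute x y' := H.cab
      have d3 : Commute x z' := H.cac
      have d4 : Commute y x' := H.cba
      have d5 : Commute y y' := H.cbb
      have d6 : Commute y z' := H.cbc
      have d7 : Commute z x' := H.cca
      have d8 : Commute z y' := H.ccb
      have d9 : Commute z z' := H.ccc
      intro s hs k hk
      rcases (hmem s).1 hs with (rfl | rfl | rfl) | (rfl | rfl | rfl) <;>
        rcases (hmem k).1 hk with (rfl | rfl | rfl) | (rfl | rfl | rfl) <;>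
        first | exact Commute.refl _ | assumption | (apply Commute.symm; assumption)
    refine ⟨{x, y, z, x', y', z'}, hD', hcm, ?_, fun w hw s hs => ?_, fun s hs k hk _ p hp q hq n cpq => ?_⟩
    · rw [Finset.card_insert_of_notMem (by simp [ht.xy, ht.xw, H.aa, H.ab, H.ac]),
        Finset.card_insert_of_notMem (by simp [ht.yw, H.ba, H.bb, H.bc]),
        Finset.card_insert_of_notMem (by simp [H.ca, H.cb, H.cc]),
        Finset.card_insert_of_notMem (by simp [ht'.xy, ht'.xw]), Finset.card_pair ht'.yw]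
      norm_num
    · obtain ⟨p, q, h2, h3⟩ : ∃ p q, Tri D s p q ∧ s * p * q = x * y * z := by
        rcases (hmem s).1 hs with h | h
        · obtain ⟨p, q, h2, h3, -⟩ := rot ht h
          exact ⟨p, q, h2, h3⟩
        · obtain ⟨p, q, h2, h3, -⟩ := rot ht' h
          exact ⟨p, q, h2, h3.trans hr'⟩
      have h4 := I.mem_hex H (t := w * s * w⁻¹) (u := w * p * w⁻¹) (w := w * q * w⁻¹)
        ⟨F.conj w _ h2.mx, F.conj w _ h2.my, F.conj w _ h2.mw, fun e => h2.xy (mul_left_cancel (mul_right_cancel e)),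
          fun e => h2.xw (mul_left_cancel (mul_right_cancel e)), fun e => h2.yw (mul_left_cancel (mul_right_cancel e)),
          comm_conj w h2.cxy, comm_conj w h2.cxw, comm_conj w h2.cyw⟩
        (by rw [conj_mul, conj_mul, h3, hw.eq, mul_inv_cancel_right])
      simpa only [Finset.mem_insert, Finset.mem_singleton] using h4
    · rcases (hmem s).1 hs with h | h
      · exact key_ne F hT hN ht h (hD' k hk) (fun w hw => hcm w ((hmem w).2 (Or.inl hw)) k hk) hp hq n cpq
      · rw [← hr']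
        exact key_ne F hT hN ht' h (hD' k hk) (fun w hw => hcm w ((hmem w).2 (Or.inr hw)) k hk) hp hq n cpq

/-- the model -/
def model : Model Spor.Fi22 R01.Fi22Facts.T where
  e := MulEquiv.refl _
  mem_iff' x := ⟨fun h => by
    obtain ⟨k, hk⟩ := isConj_iff.1 (show IsConj (gen .a) x from h)
    exact ⟨k, hk.symm⟩, fun ⟨k, hk⟩ => isConj_iff.2 ⟨k, hk.symm⟩⟩

theorem inv0 : H836.Inv Spor.Fi22 R01.Fi22Facts.T := by
  have h1 := H836.inv_of_iso (MulEquiv.refl Spor.Fi22)
  have h2 : KFacts.FiTT.TK (MulEquiv.refl Spor.Fi22) = R01.Fi22Facts.T := Set.image_id _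
  rwa [h2] at h1

end D22

end Cfsg.Agent.SB.SporD.Fi

private theorem dce_ad92b94cc6be : _root_.True := by
  try have : _root_.True := by simp only [_root_.Cfsg.Agent.SB.SporD.Fi.D22.K3.eq_1]
  try have : _root_.True := by simp only [_root_.Cfsg.Agent.SB.SporD.Fi.D22.cj.eq_1]
  try have : _root_.True := by simp only [_root_.Cfsg.Agent.SB.SporD.Fi.D22.K4.eq_1]
  exact _root_.True.intro
end

-- part: N2/Cl/RD/U45A
section
prune_inst 0x353075044500000000188500500038263a000000000b800048830e0006890e0208810601a62000015202004100390000000000904210000008000400400501208080100610000004040097008084000000000000000000000000000000000000000000000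
set_option linter.all false
open scoped Cfsg.Agent.FastGrp

/-!
# N2 (S3519), defining characteristic, `U₄`, `U₅` (1): the bridge to Steinberg's theorem (helper82)

* `Br` : the digits `pat a` of an irreducible module, its dimension and a matrix coefficient; `br_of` for any `Std`;
* `exists_std` : the unitary groups; `d_ge1`, `d_ge2` : lower bounds for restricted modules of type `A`.
-/

set_option autoImplicit false
set_option maxHeartbeats 400000
set_option linter.unusedSectionVars false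

namespace Cfsg.Agent.N2C.RD.U45

open Module Finset Cfsg.Agent.TwoF Cfsg.Agent.TwoF.DC

section gen

variable {p : ℕ} [hp : Fact p.Prime] {ι Φ k G : Type} [Fintype ι] [DecidableEq ι] [Fintype Φ] [DecidableEq Φ] [Field k]
  [Group G] {D : RDat p ι Φ k G} {T : Type} [Group T] {U : Type} [AddCommGroup U] [Module k U]

variable (D) in
/-- the digits of a module which is defined over the field of `p ^ c` elements -/
structure Br (τ : ι → ι) (φ : T →* G) (ρ : T →* End k U) (f c : ℕ) (pat : ℕ → ι → ℕ) : Prop where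
  lt : ∀ a i, pat a i < p
  per : ∀ a, pat (a + c) = pat a
  tw : ∀ a, pat (a + f) = pat a ∘ τ
  dim : finrank k U = ∏ a ∈ range f, dd D (pat a)
  coef : ∃ (v : U) (χ : Dual k U), χ v = 1 ∧ ∀ g, χ (ρ g v) = ∏ a ∈ range f, D.toFDat.cc (pat a) (φ g) ^ p ^ a

section std

variable [IsAlgClosed k] [CharP k p] [Finite T] {S : Type} [Group S] (M : Std D T S)

theorem cP_act (c : ℕ) (n : Fin M.f → ι → ℕ) (s : T) : M.cP (M.act 1 c n) (M.ΦT s) ^ p ^ c = M.cP n (M.ΦT s) := by
  induction c with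
  | zero => rw [M.act_one_zero, pow_zero, pow_one]
  | succ c ih => rw [← ih, ← M.cP_shift (M.act 1 c n), M.act_act (Commute.one_left _), mul_one, add_comm 1, pow_succ', pow_mul]

variable [FiniteDimensional k U] [Nontrivial U] {ρ : Representation k T U}

theorem br_of {C : Can D} (hF : C.Fa) (hirr : Irr ρ ⊤) {c : ℕ} (ω : k ≃+* k) (hω : ∀ x, ω x = x ^ p ^ c) (F : U →+ U)
    (h0 : Function.Surjective F) (h1 : ∀ a v, F (a • v) = ω.symm a • F v) (h2 : ∀ t v, F (ρ t v) = ρ t (F v)) :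
    ∃ pat, Br D (M.gι M.σ) M.φ ρ M.f c pat := by
  have hP := Pw.boxPow p ι Φ k G D T S M C
  obtain ⟨n, hn, h3⟩ := Std.exists_pat hF hP (ρ := ρ) (X := ⊤) (fun _ _ _ _ => trivial) top_ne_bot fun X _ => hirr X
  have h4 : M.act 1 c n = n := by
    have h4 := ((Std.cyc hF hP hn).semi (ρ := ρ) (Std.cyc hF hP (M.act_mem hn 1 c)) ω.symm.surjective (map_zero _) h1 h2
      fun β hβ => (Std.lc_eq_zero hF hP hn).2 fun t => by
        have h5 := congrArg ω ((Std.lc_eq_zero hF hP (M.act_mem hn 1 c)).1 hβ t)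
        rw [Finsupp.support_mapRange_of_injective _ _ ω.symm.injective, map_sum, map_zero] at h5
        rw [← h5]
        exact Finset.sum_congr rfl fun s _ => by
          rw [map_mul ω, Finsupp.mapRange_apply, RingEquiv.apply_symm_apply, hω, cP_act]).2
    by_contra h5
    have h6 := (Std.indep_Vc hF hP (ρ := ρ)).pairwiseDisjoint (i := ⟨_, M.act_mem hn 1 c⟩) (j := ⟨n, hn⟩)
      fun e => h5 (congrArg Subtype.val e)
    obtain ⟨v, hv⟩ := exists_ne (0 : U)
    obtain ⟨w, rfl⟩ := h0 v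
    exact hv (Submodule.disjoint_def.1 h6 _ (h4 w (h3 trivial)) (h3 trivial))
  obtain ⟨θ, hθ, h5⟩ : ∃ θ ∈ Hom (M.ρW n) ρ, θ ≠ 0 := by
    by_contra h5
    push Not at h5
    exact top_ne_bot (le_bot_iff.1 (h3.trans (iSup₂_le fun θ hθ => by rw [h5 θ hθ, LinearMap.range_zero])))
  let e := LinearEquiv.ofBijective θ ⟨(Std.cyc hF hP hn).inj M.hyp.Up hθ h5, LinearMap.range_eq_top.1
    ((hirr _ (inv_range hθ)).resolve_left fun e => h5 (LinearMap.range_eq_bot.1 e))⟩
  refine ⟨M.ext n, fun a i => M.mem_pats.1 hn _ _, fun a => ?_, fun a => ?_, ?_,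
    e (M.cW n), (LinearMap.proj 1 ∘ₗ (M.Wc n).subtype) ∘ₗ e.symm.toLinearMap, ?_, fun g => ?_⟩
  · have h6 := M.ext_act (Commute.one_left _) c n a
    rw [h4, inv_one, M.comp_gι_one] at h6
    exact h6.symm
  · simpa only [mul_one, pow_one] using M.ext_add_mul n a 1
  · rw [← e.finrank_eq, hP.dim n hn, Finset.prod_range]
    exact Finset.prod_congr rfl fun a _ => by rw [M.ext_val]
  · exact (congrArg (fun x : M.Wc n => x.1 1) (e.symm_apply_apply _)).trans (M.cP_one n)
  · have h6 : ρ g (e (M.cW n)) = e (M.ρW n g (M.cW n)) := (hθ _ _).symm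
    rw [h6]
    refine (congrArg (fun x : M.Wc n => x.1 1) (e.symm_apply_apply _)).trans ?_
    show M.cP n (1 * M.ΦT g) = _
    rw [one_mul, Finset.prod_range]
    refine Finset.prod_congr rfl fun a _ => ?_
    simp only [M.ext_val, H45.UniE.FDat.cc, M.ΦT_apply, M.Δ_iter, ← Finset.prod_pow, ← pow_mul, mul_comm]

end std

namespace Br

variable {τ : ι → ι} {φ : T →* G} {ρ : T →* End k U} {f c : ℕ} {pat : ℕ → ι → ℕ} (B : Br D τ φ ρ f c pat)
include B

theorem per' (a i : ℕ) : pat (a + c * i) = pat a := by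
  induction i with
  | zero => rfl
  | succ i ih => rw [Nat.mul_succ, ← add_assoc, B.per, ih]

theorem sym {j : ℕ} (h : f = c * j) (a : ℕ) (i : ι) : pat a (τ i) = pat a i := by
  have h1 := B.tw a
  rw [h, B.per'] at h1
  exact (congrFun h1 i).symm

theorem half {e j : ℕ} (hτ : Function.Surjective τ) (hc : c = 2 * e) (h : f = e * (2 * j + 1)) (a : ℕ) :
    pat (a + e) = 0 ↔ pat a = 0 := by
  rw [← B.per' _ j, show a + e + c * j = a + f by rw [h, hc]; ring, B.tw]
  exact ⟨fun h => funext fun i => by obtain ⟨i, rfl⟩ := hτ i; exact congrFun h i, fun h => by rw [h]; rfl⟩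

theorem pow_le {d : ℕ} (hd : ∀ a, pat a ≠ 0 → d ≤ dd D (pat a)) :
    d ^ ((range f).filter fun a => pat a ≠ 0).card ≤ finrank k U := by
  rw [B.dim, ← Finset.prod_filter_of_ne (p := fun a => pat a ≠ 0) fun a _ h e => h (by rw [e, dd_zero])]
  exact Finset.pow_card_le_prod _ _ _ fun a ha => hd a (Finset.mem_filter.1 ha).2

theorem ex (h : 2 ≤ finrank k U) : ∃ a < f, pat a ≠ 0 := by
  by_contra h1
  push Not at h1
  rw [B.dim, Finset.prod_eq_one fun a ha => by rw [h1 a (Finset.mem_range.1 ha), dd_zero]] at h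
  omega

/-- large fields -/
theorem big (h : 2 ≤ finrank k U) {d e j : ℕ} (h0 : 0 < d) (hd : ∀ a, pat a ≠ 0 → d ≤ dd D (pat a)) (hf : f = e * j)
    (he : ∀ a, pat (a + e) = 0 ↔ pat a = 0) : d ^ j ≤ finrank k U := by
  obtain ⟨a, ha, h1⟩ := B.ex h
  have h2 : ∀ a i, pat (a + e * i) = 0 ↔ pat a = 0 := fun a i => by
    induction i with
    | zero => rfl
    | succ i ih => rw [Nat.mul_succ, ← add_assoc, he, ih]
  have h3 : 0 < e := Nat.pos_of_ne_zero fun e0 => by rw [hf, e0, zero_mul] at ha; omega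
  refine le_trans (Nat.pow_le_pow_right h0 ?_) (B.pow_le hd)
  conv_lhs => rw [← Finset.card_range j]
  refine Finset.card_le_card_of_injOn (fun i => a % e + e * i) (fun i hi => Finset.mem_filter.2 ⟨Finset.mem_range.2 ?_, ?_⟩)
    fun i _ i' _ h4 => Nat.eq_of_mul_eq_mul_left h3 (Nat.add_left_cancel h4)
  · have h4 := Nat.mul_le_mul_left e (Nat.succ_le_of_lt (Finset.mem_range.1 hi))
    have h5 := Nat.mod_lt a h3
    rw [Nat.mul_succ] at h4
    show a % e + e * i < f
    omega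
  · rw [Ne, h2, ← h2 _ (a / e), Nat.mod_add_div]
    exact h1

/-- one factor -/
theorem one (h : 2 ≤ finrank k U) {d : ℕ} (h0 : 0 < d) (hd : ∀ a, pat a ≠ 0 → d ≤ dd D (pat a)) (h1 : finrank k U < d ^ 2) :
    ∃ a, pat a ≠ 0 ∧ finrank k U = dd D (pat a) ∧
      ∃ (v : U) (χ : Dual k U), χ v = 1 ∧ ∀ g, χ (ρ g v) = D.toFDat.cc (pat a) (φ g) ^ p ^ a := by
  obtain ⟨a, ha, h2⟩ := B.ex h
  have h3 : ∀ b ∈ range f, b ≠ a → pat b = 0 := fun b hb hne => by
    by_contra h4
    refine h1.not_ge (le_trans (Nat.pow_le_pow_right h0 ?_) (B.pow_le hd))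
    exact Finset.one_lt_card.2 ⟨b, Finset.mem_filter.2 ⟨hb, h4⟩, a, Finset.mem_filter.2 ⟨Finset.mem_range.2 ha, h2⟩, hne⟩
  obtain ⟨v, χ, h4, h5⟩ := B.coef
  refine ⟨a, h2, B.dim.trans (Finset.prod_eq_single_of_mem a (Finset.mem_range.2 ha) fun b hb hne => by
    rw [h3 b hb hne, dd_zero]), v, χ, h4, fun g => (h5 g).trans
      (Finset.prod_eq_single_of_mem a (Finset.mem_range.2 ha) fun b hb hne => ?_)⟩
  simp [h3 b hb hne, H45.UniE.FDat.cc]

end Br

end gen

section su

open Matrix Cfsg.Agent.H45.UniE Cfsg.Agent.H356.TA Cfsg.Agent.TitsThree.KSideA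
  Cfsg.Agent.Nodes.RGDTypeA Cfsg.Agent.H564.TWP Cfsg.Agent.LieClassical.HermBasic Cfsg.Agent.TwoF.DC.TA Cfsg.Agent.TwoF.DC.TA.I
open Cfsg.Agent.H356.TU (SJ UB exists_UB phi chi orb ee sysU fdE)

variable {p : ℕ} [hp : Fact p.Prime] {n : ℕ} {k : Type} [Field k] [IsAlgClosed k] [CharP k p]

/-- the constructor -/
theorem std_of {ι : kˣ} (hι : (ι : k) ^ 2 = -1) {T : Type} [Group T] [Finite T] {f : ℕ} (hf : 0 < f)
    (φ : T →* SLn n k) (hinj : Function.Injective φ)
    (hφ : ∀ g, g ∈ φ.range ↔ grA hι (γ0 n) (mp (iterateFrobenius k p f) g) = g)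
    {J : Type} [DecidableEq J] {C : J → Type} [∀ j, CommGroup (C j)] {E : TSys J C T} {χ : (j : J) → C j →* kˣ}
    {orb : Fin n → J} {e : Fin n → ℕ} (hyp : Hyp p E (fdA n k) φ χ orb e fun _ => p ^ f)
    (hwt : ∀ (W : Type) [AddCommGroup W] [Module k W], E.Wt k W)
    (wt_le : ∀ l : Fin n → ℕ, (∀ i, l i < p ^ f) → ∀ j, TSys.wt orb e l j ≤ Nat.card (C j))
    (wt_inj : ∀ l l' : Fin n → ℕ, (∀ i, l i < p ^ f) → (∀ i, l' i < p ^ f) → TSys.wt orb e l = TSys.wt orb e l' → l = l')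
    (hU : Nat.card E.U = (p ^ f) ^ Fintype.card (Pos n)) (syl : ¬ p ∣ E.U.index) (perfect : commutator T = ⊤) :
    ∃ M : Std (rdA p n k) T Unit, M.f = f ∧ M.φ = φ ∧ M.gι M.σ = Fin.revPerm := by
  have hΦ : ∀ γ : GrA n, (γ.1 = 1 ∧ hom2 (rev_sq n) (fl n) (fl_sq n) γ = 1) ∨
      (γ.1 = Fin.revPerm ∧ hom2 (rev_sq n) (fl n) (fl_sq n) γ = fl n) := fun γ => by
    rcases GrA_cases γ with rfl | ⟨h, h'⟩
    · exact Or.inl ⟨rfl, map_one _⟩
    · exact Or.inr ⟨h', hom2_of_ne _ _ _ h⟩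
  have hcf : ∀ (γ : GrA n) b i, cfA (hom2 (rev_sq n) (fl n) (fl_sq n) γ b) (γ.1 i) = cfA b i := fun γ b i => by
    rcases hΦ γ with ⟨h, h'⟩ | ⟨h, h'⟩ <;> rw [h, h']
    · rfl
    · have h1 := b.1.1.2
      have h2 := b.1.2.2
      have h3 := i.2
      simp only [cfA, fl_fst, fl_snd, Fin.revPerm_apply, Fin.val_rev]
      congr 1
      exact propext (by omega)
  refine ⟨{ f := f, f_pos := hf, Fr := mp (frobenius k p), Fr_z := fun b t => mp_tv _ b.2.ne t
            Fr_y := fun i t => mp_tv _ (cs_ne i).symm t, Δ_Fr := fun i g => DA_mp _ i g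
            Gr := GrA n, gr := grA hι, gι := Subgroup.subtype _, gΦ := hom2 (rev_sq n) (fl n) (fl_sq n)
            gι_inj := Subtype.val_injective, gr_x := grA_x hι, gr_y := grA_y hι, gr_z := fun γ b => ?_, cf_gr := hcf
            co_gr := hcf, C_gr := fun γ i j => ?_, ht_gr := fun γ b => ?_
            Δ_gr := fun γ i g => Δ_map (rdA p n k) T_le (α := (grA hι γ).toMonoidHom) (grA_x hι γ) (grA_y hι γ) i g
            Gr_small := ?_, σ := γ0 n, φ := φ, φ_inj := hinj, φ_fix := fun s => ?_, φ_Fr := fun s => ?_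
            φ_gr := fun γ hγ s => ?_, J := J, C := C, E := E, χ := χ, orb := orb, e := e, hyp := hyp, hwt := hwt
            wt_le := wt_le, wt_inj := wt_inj, card_U := hU, syl := syl, perfect := perfect, π := 1
            π_surj := fun _ => ⟨1, rfl⟩, cover := fun K _ _ hK _ e => ?_ }, rfl, rfl, rfl⟩
  · rcases GrA_cases γ with rfl | ⟨h, -⟩
    · exact ⟨1, fun t => by rw [map_one, map_one, Units.val_one, one_mul]; rfl⟩
    · exact ⟨_, fun t => by rw [grA_ne hι h, hom2_of_ne _ _ _ h]; exact th1_z ι b t⟩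
  · show CA (γ.1 i) (γ.1 j) = CA i j
    rcases hΦ γ with ⟨h, -⟩ | ⟨h, -⟩ <;> rw [h]
    · rfl
    · have h1 := i.2
      have h2 := j.2
      simp only [CA, Fin.revPerm_apply, Fin.val_rev]
      omega
  · rcases hΦ γ with ⟨-, h⟩ | ⟨-, h⟩ <;> rw [h]
    · rfl
    · have h1 := b.1.1.2
      have h2 := b.1.2.2
      show 2 * (((fl n b).1.2 : ℕ) - (fl n b).1.1) = 2 * ((b.1.2 : ℕ) - b.1.1)
      rw [fl_fst, fl_snd]
      omega
  · rw [Nat.card_zpowers]
    exact (orderOf_dvd_of_pow_eq_one ((pow_two _).trans (rev_sq n))).trans ⟨3, rfl⟩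
  · rw [Fr_iter]
    exact (hφ _).1 ⟨s, rfl⟩
  · refine (hφ _).2 ?_
    rw [mp_mp, show (iterateFrobenius k p f).comp (frobenius k p) = (frobenius k p).comp (iterateFrobenius k p f) from
      RingHom.ext fun x => by simp only [RingHom.comp_apply, frobenius_def, map_pow], ← mp_mp, grA_mp, (hφ _).1 ⟨s, rfl⟩]
  · refine (hφ _).2 ?_
    rw [← grA_mp, ← MulAut.mul_apply, ← map_mul, ← hγ.eq, map_mul, MulAut.mul_apply, (hφ _).1 ⟨s, rfl⟩]
  · exact absurd e.toEquiv.subsingleton (not_subsingleton_iff_nontrivial.2 hK.2.toNontrivial)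

/-- **the unitary groups** -/
theorem exists_std {F : Type} [Field F] [Fintype F] [CharP F p] [Algebra F k] {f : ℕ} (hf : 0 < f)
    (hF : Fintype.card F = (p ^ f) ^ 2) (hn : 3 ≤ n) : ∃ (M : Std (rdA p n k) (SJ hF n) Unit) (ι : kˣ), (ι : k) ^ 2 = -1 ∧
      M.f = f ∧ M.gι M.σ = Fin.revPerm ∧ (∀ s, th1 ι (mp (iterateFrobenius k p f) (M.φ s)) = M.φ s) ∧
      Nonempty (SU (n + 1) F (p ^ f) ≃* SJ hF n) := by
  have hq := two_le hF
  replace hn : 2 ≤ n ∧ n ≠ 2 := by omega
  obtain ⟨hn, hs⟩ := hn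
  obtain ⟨ι, hι⟩ := exists_ι (k := k)
  obtain ⟨μ, hμ⟩ : ∃ μ : kˣ, dlt n ι = dlt n μ * (mp (iterateFrobenius k p f) (dlt n μ))⁻¹ := by
    obtain ⟨c, hc⟩ := IsAlgClosed.exists_pow_nat_eq ((ι⁻¹ : kˣ) : k) (show 0 < p ^ f - 1 by omega)
    have hc0 : c ≠ 0 := fun e => ι⁻¹.ne_zero (by rw [← hc, e, zero_pow (by omega)])
    refine ⟨Units.mk0 c hc0, ?_⟩
    rw [eq_mul_inv_iff_mul_eq, mp_dlt]
    refine ((gdA n k).δ_mul _ _).symm.trans (congrArg _ (Units.ext ?_))
    show ι * c ^ p ^ f = c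
    rw [← Nat.sub_add_cancel (show 1 ≤ p ^ f by omega), pow_succ, hc, Units.mul_inv_cancel_left]
  obtain ⟨U⟩ := exists_UB hF n
  have : Finite (CoxeterMatrix.B ((n + 1) / 2)).Group := UB.finiteW
  let φ : SJ hF n →* SLn n k := (MulAut.conj ((fdA n k).δ μ)).toMonoidHom.comp (phi hF n k)
  have hφ0 : ∀ s, φ s = dlt n μ * mp (algebraMap F k) s.1 * (dlt n μ)⁻¹ := fun _ => rfl
  have hφ : ∀ g : SLn n k, g ∈ φ.range ↔ grA hι (γ0 n) (mp (iterateFrobenius k p f) g) = g := fun g => by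
    have h1 := mem_range_phi hF (Fq := iterateFrobenius k p f) (fun _ => rfl) ((dlt n μ)⁻¹ * g * dlt n μ)
    rw [map_mul, map_mul, map_mul, map_mul, map_inv, map_inv, ← mp_th0 _ (dlt n μ), th0_dlt] at h1
    rw [grA_γ0, th1_apply, hμ]
    refine Iff.trans ⟨?_, ?_⟩ (h1.trans ⟨fun h => ?_, fun h => ?_⟩)
    · rintro ⟨s, rfl⟩
      exact ⟨s, by rw [hφ0, mul_assoc, mul_assoc, inv_mul_cancel, mul_one, inv_mul_cancel_left]; rfl⟩
    · rintro ⟨s, h⟩
      exact ⟨s, (congrArg (fun x => dlt n μ * x * (dlt n μ)⁻¹) h).trans (by group)⟩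
    · exact Eq.trans (by group) ((congrArg (fun x => dlt n μ * x * (dlt n μ)⁻¹) h).trans (by group))
    · exact Eq.trans (by group) (congrArg (fun x => (dlt n μ)⁻¹ * x * dlt n μ) h)
  have hinj : Function.Injective φ :=
    (MulAut.conj _).injective.comp ((mp_inj (algebraMap F k)).comp Subtype.val_injective)
  have hyp := hyp_tr (D := fdA n k) (H356.TU.hyp_sysU U (p := p) hn (D := fdE n k) (fun _ _ => rfl) (H356.TU.U_le_fdE n _)
    (H356.TU.Um_le_fdE n _) le_rfl (fun _ => rfl) (H356.TU.cov_U hF (H356.TU.phi_mX U hn) (H356.TU.phi_mZ U hn))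
    (H379.SUD.sg0 (p := p) (U := U) (fun _ => rfl) (fun _ => rfl) (D := fdA n k) (fun _ _ => rfl)
      (H356.TU.map_sysU U hn (fun _ _ => rfl) le_rfl le_rfl le_rfl fun _ => rfl)) (H379.SUD.lam (fun _ => rfl) hF))
    (H356.TU.map_sysU U hn (fun _ _ => rfl) le_rfl le_rfl le_rfl fun _ => rfl) rfl rfl rfl
    (fun b => ⟨H356.TU.eps k b, fun s => congrArg ((fdA n k).z b) (by rw [← mul_assoc, H356.TU.eps_mul, one_mul])⟩) μ
    (τ_range hι hφ)
  have syl : ¬ p ∣ (sysU U (p := p) hn).U.index := syl_of_rgd U.rgd (H356.TU.rin U (p := p) hn).gen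
  have hT := LieClassical.HermPerfect.commutator_SU_eq_top (n := n + 1) hF (by omega) fun h => hs (by omega)
  have hadd : ∀ m, 0 < m → ¬ p ∣ (p ^ f) ^ m + 1 := fun m hm h =>
    hp.out.ne_one (Nat.dvd_one.1 ((Nat.dvd_add_right (dvd_pow (dvd_pow_self p hf.ne') hm.ne')).1 h))
  suffices h : ∃ M : Std (rdA p n k) (SJ hF n) Unit, M.f = f ∧ M.φ = φ ∧ M.gι M.σ = Fin.revPerm from h.imp fun M h =>
    ⟨ι, hι, h.1, h.2.2, fun s => by rw [h.2.1]; exact (grA_γ0 hι _).symm.trans ((hφ _).1 ⟨s, rfl⟩), ⟨U.psi⟩⟩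
  refine std_of hι hf φ hinj hφ hyp (fun W _ _ => H356.TU.wt_sysU U hn) (fun l hl j => ?_) (fun l l' hl hl' h => ?_) ?_ syl ?_
  · have h1 := card_Cs (n := n) hF j
    have h2 := hl ⟨j, by omega⟩
    have h3 := Nat.mul_le_mul_left (p ^ f) (hl ⟨n - 1 - j, by omega⟩)
    rw [H379.SUD.wt_eq fun _ => rfl]
    rw [Nat.mul_succ, ← pow_two] at h3
    split_ifs at h1 ⊢ <;> omega
  · funext i
    have hi := i.2
    by_cases h1 : (i : ℕ) < (n + 1) / 2
    · have h2 := congrFun h ⟨i, h1⟩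
      rw [H379.SUD.wt_eq fun _ => rfl, H379.SUD.wt_eq fun _ => rfl] at h2
      split_ifs at h2
      · exact h2
      · exact (digit (hl _) (hl' _) h2).1
    · have h2 := congrFun h ⟨n - 1 - i, by omega⟩
      rw [H379.SUD.wt_eq fun _ => rfl, H379.SUD.wt_eq fun _ => rfl, if_neg (by simp only; omega),
        if_neg (by simp only; omega)] at h2
      have h3 := (digit (hl _) (hl' _) h2).2
      simp only [show n - 1 - (n - 1 - i) = i by omega] at h3
      exact h3
  · rw [← pow_mul]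
    refine card_of_syl (isPGroup_U _ _) syl (a := p ^ f + 1) (pow_one (p ^ f) ▸ hadd 1 one_pos) (fun h => ?_)
      (by rw [← Nat.card_congr U.psi.toEquiv, S0278.result hF (n + 1) n.succ_pos, pow_mul, card_Pos])
    obtain ⟨i, -, hi⟩ := hp.out.prime.exists_mem_finset_dvd h
    split_ifs at hi
    · exact hadd _ i.succ_pos hi
    · exact not_dvd_sub hf i.succ_pos hi
  · rw [_root_.commutator_def, ← Subgroup.map_top_of_surjective U.psi.toMonoidHom U.psi.surjective, ← Subgroup.map_commutator,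
      ← _root_.commutator_def, hT]

/-! ### dimensions -/

/-- the number of rearrangements -/
def oc (v : Fin (n + 1) → ℤ) : Finset (Fin (n + 1) → ℤ) := univ.image fun π : Equiv.Perm (Fin (n + 1)) => v ∘ π

theorem oc_le {v w : Fin (n + 1) → ℤ} (hv : ∀ i, 0 ≤ tw v i) (h : ∀ i, tw v i = 0 → tw w i = 0) : (oc w).card ≤ (oc v).card := by
  have h1 : Antitone v := Fin.antitone_iff_succ_le.2 fun i => sub_nonneg.1 (hv i)
  have h2 : ∀ j i, i ≤ j → v i = v j → w i = w j := fun j => by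
    induction j using Fin.induction with
    | zero => exact fun i hi _ => by rw [Fin.le_zero_iff.1 hi]
    | succ j ih =>
      intro i hi e
      rcases hi.eq_or_lt with rfl | hi
      · rfl
      · have h3 := Fin.le_castSucc_iff.2 hi
        have h4 : v j.castSucc = v j.succ := le_antisymm (e ▸ h1 h3) (h1 Fin.castSucc_lt_succ.le)
        exact (ih i h3 (e.trans h4.symm)).trans (sub_eq_zero.1 (h j (sub_eq_zero.2 h4)))
  obtain ⟨g, rfl⟩ : ∃ g : ℤ → ℤ, w = g ∘ v := by
    refine ⟨fun x => if h : ∃ i, v i = x then w h.choose else 0, funext fun i => ?_⟩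
    have h3 : ∃ j, v j = v i := ⟨i, rfl⟩
    rw [Function.comp_apply, dif_pos h3]
    exact (le_total i h3.choose).elim (fun h4 => h2 _ _ h4 h3.choose_spec.symm) fun h4 => (h2 _ _ h4 h3.choose_spec).symm
  refine le_trans (le_of_eq (congrArg card ?_)) (card_image_le (s := oc v) (f := fun u => g ∘ u))
  rw [oc, oc, Finset.image_image]
  rfl

variable {l : Fin n → ℕ} (hl : ∀ i, l i < p) (h0 : l ≠ 0)
include hl h0

theorem d_of : ∃ m : Fin (n + 1) → ℤ, (tw m = fun i => (l i : ℤ)) ∧ ∀ A : Finset (Fin (n + 1) → ℤ), (∀ u ∈ A, Gd m u) →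
    A.card ≤ dd (rdA p n k) l := by
  obtain ⟨C⟩ := boxHW p _ _ k _ (rdA p n k)
  refine ⟨m0 (C.H l hl h0), (tw_m0 _).trans (funext fun i => congrArg _ (congrFun (C.lam l hl h0) i)), fun A hA => ?_⟩
  rw [← Finset.card_image_of_injOn (f := tw) fun u hu u' hu' e => tw_inj e ((hA u hu).sum.trans (hA u' hu').sum.symm)]
  refine (C.H l hl h0).card_le_d _ fun μ hμ => ?_
  obtain ⟨u, hu, rfl⟩ := Finset.mem_image.1 hμ
  exact IsA.isWt_gd isA_RA _ (hA u hu)

/-- the extremal weights -/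
theorem d_ge1 (w : Fin (n + 1) → ℤ) (h : ∀ i, l i = 0 → tw w i = 0) : (oc w).card ≤ dd (rdA p n k) l := by
  obtain ⟨m, h1, h2⟩ := d_of (k := k) hl h0
  refine (oc_le (fun i => by rw [h1]; exact Int.natCast_nonneg _) fun i hi => h i (by rw [h1] at hi; exact Int.natCast_eq_zero.1 hi)).trans
    (h2 _ fun u hu => ?_)
  obtain ⟨π, -, rfl⟩ := Finset.mem_image.1 hu
  exact ⟨π, Or.inl rfl⟩

/-- the extremal weights and their neighbours -/
theorem d_ge2 (w w' : Fin (n + 1) → ℤ) (j : Fin n) (hj : 2 ≤ l j) (h : ∀ i, l i = 0 → tw w i = 0)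
    (h' : ∀ i, l i = CA i j → tw w' i = 0) : (oc w).card + (oc w').card ≤ dd (rdA p n k) l := by
  obtain ⟨m, h1, h2⟩ := d_of (k := k) hl h0
  have h3 : m j.succ + 2 ≤ m j.castSucc := by
    have h3 : m j.castSucc - m j.succ = l j := congrFun h1 j
    omega
  have h4 : ∀ i, tw (m - ev j.castSucc + ev j.succ) i = l i - CA i j := fun i => by
    rw [← tw_simple, ← show tw m i = l i from congrFun h1 i]
    simp only [tw, Pi.add_apply, Pi.sub_apply]
    ring
  refine (Nat.add_le_add (oc_le (v := m) (fun i => by rw [h1]; exact Int.natCast_nonneg _) fun i hi =>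
    h i (by rw [h1] at hi; exact Int.natCast_eq_zero.1 hi)) (oc_le (v := m - ev j.castSucc + ev j.succ) (fun i => ?_) fun i hi =>
      h' i (sub_eq_zero.1 ((h4 i).symm.trans hi)))).trans ?_
  · rw [h4, CA]
    split_ifs with h5
    · rw [Fin.ext h5]; omega
    all_goals omega
  rw [← Finset.card_union_of_disjoint (Finset.disjoint_left.2 fun u hu hu' => ?_)]
  · refine h2 _ fun u hu => ?_
    rcases Finset.mem_union.1 hu with hu | hu <;> obtain ⟨π, -, rfl⟩ := Finset.mem_image.1 hu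
    exacts [⟨π, Or.inl rfl⟩, ⟨π, Or.inr ⟨_, _, by omega, rfl⟩⟩]
  · obtain ⟨π, -, rfl⟩ := Finset.mem_image.1 hu
    obtain ⟨π', -, e⟩ := Finset.mem_image.1 hu'
    exact not_perm h3 (π * π'⁻¹) (funext fun x => by simpa using congrFun e (π'⁻¹ x))

end su

end Cfsg.Agent.N2C.RD.U45

private theorem dce_5c469c34f58b : _root_.True := by
  try have : _root_.True := by simp only [_root_.Cfsg.Agent.N2C.RD.U45.oc.eq_1]
  exact _root_.True.intro
end

-- part: N2/Sp5/Shape
section
set_option linter.all false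
open scoped Cfsg.Agent.FastGrp

/-!
# N2 (S3519), sporadic groups: finite groups without normal subgroups of prime power order (helper16)
-/

set_option autoImplicit false
set_option linter.unusedSectionVars false

namespace Cfsg.Agent.N2.Sp5

open Cfsg Subgroup Cfsg.Agent.H612.MinNormal

variable {G : Type} [Group G] [Finite G]

/-- a component -/
structure Cp (S : Subgroup G) : Prop where
  simple : IsSimpleGroup S
  nab : ¬ IsMulCommutative S
  cnj : ∀ g : G, cj g S = S ∨ cj g S ≤ centralizer (S : Set G)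

theorem exists_cp [Nontrivial G] (h0 : ∀ p : ℕ, p.Prime → pCore p G = ⊥) : ∃ S : Subgroup G, Cp S := by
  obtain ⟨N, ⟨h1, h2⟩, h3⟩ := (Set.toFinite {N : Subgroup G | N.Normal ∧ N ≠ ⊥}).exists_minimal
    ⟨⊤, inferInstance, top_ne_bot⟩
  obtain ⟨S, -, -, h4, h5, -, h6⟩ := exists_factor N h2 (fun M hM hl => by
    by_cases e : M = ⊥
    · exact .inl e
    · exact .inr (le_antisymm hl (h3 ⟨hM, e⟩ hl))) fun hc => by
    have : Nontrivial N := N.nontrivial_iff_ne_bot.2 h2
    have : Group.IsSolvable N := Group.isSolvable_of_comm fun a b => Subtype.ext (hc a a.2 b b.2)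
    obtain ⟨p, hp, M, hM, -, h7, h8⟩ := Lib.SolvableMinNormal.exists_characteristic_pgroup (G := N)
    have := Fact.mk hp
    have h9 : M.map N.subtype ≤ pCore p G := Lib.Cores.le_pCore inferInstance (h7.map _)
    rw [h0 p hp, le_bot_iff, map_eq_bot_iff_of_injective _ N.subtype_injective] at h9
    exact h8 h9
  exact ⟨S, h4, h5, h6⟩

/-- the component is normal with trivial centraliser -/
theorem Cp.soc {S : Subgroup G} (h : Cp S) {p : ℕ} (hp : p.Prime) (h0 : pCore p G = ⊥)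
    (hc : IsPGroup p (centralizer (S : Set G))) : S.Normal ∧ centralizer (S : Set G) = ⊥ := by
  have := Fact.mk hp
  have := h.simple
  have h1 : S.Normal := ⟨fun n hn g => by
    rcases h.cnj g with e | e
    · rw [← e, mem_cj]
      rwa [show g⁻¹ * (g * n * g⁻¹) * g = n by group]
    · have h2 : IsPGroup p S := (hc.to_le e).of_equiv (S.equivMapOfInjective _ (MulAut.conj g).injective).symm
      have := h2.isNilpotent
      exact absurd ⟨⟨IsSimpleGroup.comm_iff_isSolvable.2 inferInstance⟩⟩ h.nab⟩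
  exact ⟨h1, le_bot_iff.1 (h0 ▸ Lib.Cores.le_pCore inferInstance hc)⟩

theorem card_dvd_aut {S : Subgroup G} [S.Normal] (hc : centralizer (S : Set G) = ⊥) : Nat.card G ∣ Nat.card (MulAut S) := by
  refine card_dvd_of_injective (MulAut.conjNormal (H := S)) ((MonoidHom.ker_eq_bot_iff _).1 (le_bot_iff.1 ?_))
  rw [← hc]
  intro g hg
  refine mem_centralizer_iff.2 fun s hs => ?_
  have h1 := congrArg Subtype.val (DFunLike.congr_fun (MonoidHom.mem_ker.1 hg) ⟨s, hs⟩)
  rw [MulAut.conjNormal_apply] at h1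
  exact (mul_inv_eq_iff_eq_mul.1 h1).symm

theorem card_aut_congr {U V : Type} [Group U] [Group V] (e : U ≃* V) : Nat.card (MulAut U) = Nat.card (MulAut V) :=
  Nat.card_congr (MulAut.congr e).toEquiv

theorem three_le {U : Type} [Group U] [Finite U] [IsSimpleGroup U] (hU : ¬ IsMulCommutative U) :
    3 ≤ (Nat.card U).primeFactors.card := by
  by_contra hne
  have := SolvableStructure.HallConverse.isSolvable_of_no_three_primes (G := U) (by omega)
  exact hU ⟨⟨IsSimpleGroup.comm_iff_isSolvable.2 ‹_›⟩⟩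

/-- the three simple groups -/
def L5 (U : Type) [Group U] : Prop :=
  Nonempty (U ≃* alternatingGroup (Fin 5)) ∨ Nonempty (U ≃* alternatingGroup (Fin 6)) ∨
    ∃ (F : Type) (_ : Field F) (_ : Fintype F), Fintype.card F = 4 ∧ Nonempty (U ≃* PSU 4 F 2)

theorem list5 (cf : Cf) {U : Type} [Group U] [Finite U] [IsSimpleGroup U] (hU : ¬ IsMulCommutative U)
    (h5 : ∀ r : ℕ, r.Prime → r ∣ Nat.card U → r ≤ 5) : L5 U := by
  obtain ⟨g, hg⟩ := H436.exists_named OrdDiv.table (cf U) fun h => hU ⟨⟨h⟩⟩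
  have no : ∀ r n : ℕ, r.Prime → 5 < r → r ∣ n → Nat.card U ≠ n := fun r n hr h1 h2 h3 =>
    absurd (h5 r hr (h3 ▸ h2)) (by omega)
  have h3 : (Nat.card U).primeFactors.card = 3 := by
    refine le_antisymm ((Finset.card_le_card (t := {2, 3, 5}) fun r hr => ?_).trans (by decide)) (three_le hU)
    have hp := Nat.prime_of_mem_primeFactors hr
    have h1 := h5 r hp (Nat.dvd_of_mem_primeFactors hr)
    revert hp
    clear * - h1
    interval_cases r <;> decide
  rcases H436.Core3719.core hg h3 with h | h | ⟨F, _, _, hF, ⟨e⟩⟩ | ⟨F, _, _, hF, ⟨e⟩⟩ | ⟨F, _, _, hF, ⟨e⟩⟩ | h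
  · exact Or.inl h
  · exact Or.inr (Or.inl h)
  · exfalso
    have hc := Nat.card_congr e.toEquiv
    rcases hF with hF | hF | hF <;> have h := S0243.result hF 2 le_rfl <;> rw [← hc] at h <;>
      simp only [Fin.prod_univ_two] at h <;> norm_num at h
    · exact no 7 168 (by norm_num) (by norm_num) (by norm_num) (by omega)
    · exact no 7 504 (by norm_num) (by norm_num) (by norm_num) (by omega)
    · exact no 17 2448 (by norm_num) (by norm_num) (by norm_num) (by omega)
  · exfalso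
    have hc := Nat.card_congr e.toEquiv
    have h := S0243.result hF 3 (by norm_num)
    rw [← hc] at h
    simp only [Fin.prod_univ_three] at h
    norm_num at h
    exact no 13 5616 (by norm_num) (by norm_num) (by norm_num) (by omega)
  · exfalso
    have hc := Nat.card_congr e.toEquiv
    rw [SmallSimple.PSLFacts.card_psu_three_three hF] at hc
    exact no 7 6048 (by norm_num) (by norm_num) (by norm_num) hc
  · exact Or.inr (Or.inr h)

theorem card_alt5 : Nat.card (alternatingGroup (Fin 5)) = 60 := by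
  have := two_mul_nat_card_alternatingGroup (α := Fin 5)
  rw [Nat.card_perm, Nat.card_fin] at this
  simp only [Nat.factorial] at this
  omega

theorem card_alt6 : Nat.card (alternatingGroup (Fin 6)) = 360 := by
  have := two_mul_nat_card_alternatingGroup (α := Fin 6)
  rw [Nat.card_perm, Nat.card_fin] at this
  simp only [Nat.factorial] at this
  omega

theorem L5.card {U : Type} [Group U] (h : L5 U) : Nat.card U = 60 ∨ Nat.card U = 360 ∨ Nat.card U = 25920 := by
  rcases h with ⟨⟨e⟩⟩ | ⟨⟨e⟩⟩ | ⟨F, _, _, hF, ⟨e⟩⟩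
  · exact .inl ((Nat.card_congr e.toEquiv).trans card_alt5)
  · exact .inr (.inl ((Nat.card_congr e.toEquiv).trans card_alt6))
  · exact .inr (.inr ((Nat.card_congr e.toEquiv).trans (H93.ThreeNine.card_psu_four_two hF)))

/-- an element whose centraliser has no elements of other prime orders -/
theorem pg_cent {S : Subgroup G} {u : G} (hu : u ∈ S) {p : ℕ} (hp : p.Prime)
    (h : ∀ g : G, (orderOf g).Prime → Commute u g → orderOf g = p) : IsPGroup p (centralizer (S : Set G)) := by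
  refine (isPGroup_iff_primeFactors_card_subset hp.ne_zero).2 fun r hr => ?_
  have := Fact.mk (Nat.prime_of_mem_primeFactors hr)
  obtain ⟨g, hg⟩ := exists_prime_orderOf_dvd_card' r (Nat.dvd_of_mem_primeFactors hr)
  rw [← orderOf_coe] at hg
  rw [hp.primeFactors, Finset.mem_singleton, ← hg]
  exact h g (hg ▸ this.1) (mem_centralizer_iff.1 g.2 u hu)

theorem exists_ord (S : Subgroup G) {p : ℕ} (hp : p.Prime) (h : p ∣ Nat.card S) : ∃ u ∈ S, orderOf u = p := by
  have := Fact.mk hp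
  obtain ⟨g, hg⟩ := exists_prime_orderOf_dvd_card' p h
  exact ⟨g, g.2, by rw [orderOf_coe, hg]⟩

theorem Cp.l5 (cf : Cf) {S : Subgroup G} (h : Cp S) (h5 : ∀ g : G, (orderOf g).Prime → orderOf g ≤ 5) : L5 S :=
  have := h.simple
  list5 cf h.nab fun r hr hd => by
    obtain ⟨u, -, rfl⟩ := exists_ord S hr hd
    exact h5 u hr

/-- **the socle** -/
theorem soc5 (cf : Cf) [Nontrivial G] (h0 : ∀ p : ℕ, p.Prime → pCore p G = ⊥)
    (h5 : ∀ g : G, (orderOf g).Prime → orderOf g ≤ 5) (h10 : ∀ g : G, orderOf g ≠ 10 ∧ orderOf g ≠ 15) :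
    ∃ S : Subgroup G, S.Normal ∧ centralizer (S : Set G) = ⊥ ∧ L5 S := by
  obtain ⟨S, hS⟩ := exists_cp h0
  have h1 := hS.l5 cf h5
  obtain ⟨u, hu, ou⟩ := exists_ord S Nat.prime_five (by have := h1.card; omega)
  obtain ⟨h2, h3⟩ := hS.soc Nat.prime_five (h0 5 Nat.prime_five) (pg_cent hu Nat.prime_five fun g hg hc => by
    by_contra e
    have h4 := hc.orderOf_mul_eq_mul_orderOf_of_coprime
      (ou ▸ (Nat.coprime_primes Nat.prime_five hg).2 (Ne.symm e))
    have h6 := h10 (u * g)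
    have h7 := h5 g hg
    rw [h4, ou] at h6
    generalize orderOf g = r at *
    interval_cases r <;> first | omega | exact absurd hg (by decide))
  exact ⟨S, h2, h3, h1⟩

theorem mem_of_coprime {S : Subgroup G} [S.Normal] {g : G} (h : S.index.Coprime (orderOf g)) : g ∈ S := by
  obtain ⟨m, hm⟩ := exists_pow_eq_self_of_coprime h
  exact hm ▸ S.pow_mem (S.pow_index_mem g) m

theorem index_dvd {S : Subgroup G} [S.Normal] (hc : centralizer (S : Set G) = ⊥) {k : ℕ}
    (h : Nat.card (MulAut S) = k * Nat.card S) : S.index ∣ k :=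
  Nat.dvd_of_mul_dvd_mul_right (Nat.card_pos (α := S)) (by rw [S.index_mul_card, ← h]; exact card_dvd_aut hc)

/-- the elements of order five -/
theorem card_five {S : Subgroup G} {n : ℕ} (e : S ≃* alternatingGroup (Fin n)) (h5 : 5 ≤ n) (h9 : n ≤ 9)
    (h : ∀ g : G, orderOf g = 5 → g ∈ S) : Nat.card {g : G // orderOf g = 5} ≤ 24 * n.choose 5 := by
  have h1 := Equiv.Perm.card_of_cycleType_singleton (α := Fin n) (n := 5) (by norm_num) (by rwa [Fintype.card_fin])
  rw [Fintype.card_fin] at h1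
  rw [show 24 = (5 - 1).factorial from rfl, ← h1, ← Fintype.card_coe, ← Nat.card_eq_fintype_card]
  refine Nat.card_le_card_of_injective (fun g => ⟨(e ⟨g.1, h g.1 g.2⟩).1, ?_⟩) fun a b hab => ?_
  · have h2 : orderOf (e ⟨g.1, h g.1 g.2⟩).1 = 5 := by rw [orderOf_coe, e.orderOf_eq, orderOf_mk, g.2]
    have h3 := Equiv.Perm.isCycle_of_prime_order' (h2 ▸ Nat.prime_five) (by rw [h2, Fintype.card_fin]; omega)
    rw [Finset.mem_filter, h3.cycleType, ← h3.orderOf, h2]
    exact ⟨Finset.mem_univ _, rfl⟩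
  · exact Subtype.ext (congrArg Subtype.val (e.injective (Subtype.ext (congrArg Subtype.val hab :))) :)

/-- the orders and the numbers of the elements of order five -/
def cand : List (ℕ × ℕ) := [(60, 24), (120, 24), (360, 144), (720, 144), (1440, 144)]

theorem shape_of {S : Subgroup G} [S.Normal] (hc : centralizer (S : Set G) = ⊥) (h : L5 S) :
    (∃ q ∈ cand, Nat.card G = q.1 ∧ Nat.card {g : G // orderOf g = 5} ≤ q.2) ∨
      Nat.card G ≤ 51840 ∧ ∃ g : G, orderOf g = 9 := by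
  have h1 := S.index_mul_card
  have h4 : S.index ∣ 4 → ∀ g : G, orderOf g = 5 → g ∈ S := fun h g hg =>
    mem_of_coprime (hg ▸ Nat.Coprime.coprime_dvd_left h (by norm_num))
  rcases h with ⟨⟨e⟩⟩ | ⟨⟨e⟩⟩ | ⟨F, _, _, hF, ⟨e⟩⟩
  · have h2 := (Nat.card_congr e.toEquiv).trans card_alt5
    have h3 := index_dvd hc (k := 2) (by
      rw [card_aut_congr e, H138.HT.card_aut_alt 5 (by norm_num) (by norm_num), h2]; rfl)
    have h5 := card_five e le_rfl (by norm_num) (h4 (h3.trans (by norm_num)))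
    rw [h2] at h1
    rcases (Nat.dvd_prime Nat.prime_two).1 h3 with k | k <;> rw [k] at h1
    exacts [.inl ⟨(60, 24), by decide, h1.symm, h5⟩, .inl ⟨(120, 24), by decide, h1.symm, h5⟩]
  · have h2 := (Nat.card_congr e.toEquiv).trans card_alt6
    have h3 := index_dvd hc (k := 4) (by rw [card_aut_congr e, H824.ProdLem.card_aut_a6, h2])
    have h5 := card_five e (by norm_num) (by norm_num) (h4 h3)
    rw [h2] at h1
    obtain ⟨i, hi, k⟩ := (Nat.dvd_prime_pow (m := 2) Nat.prime_two).1 h3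
    rw [k] at h1
    interval_cases i
    exacts [.inl ⟨(360, 144), by decide, h1.symm, h5⟩, .inl ⟨(720, 144), by decide, h1.symm, h5⟩,
      .inl ⟨(1440, 144), by decide, h1.symm, h5⟩]
  · have h2 := (Nat.card_congr e.toEquiv).trans (H93.ThreeNine.card_psu_four_two hF)
    have h3 := index_dvd hc (k := 2) (by
      rw [card_aut_congr e, H845.AutUFour.card_mulAut_PSU hF, Nat.card_congr e.toEquiv])
    obtain ⟨x, hx⟩ := H497.UFourTwo.exists_order_nine hF
    have h5 := Nat.le_of_dvd two_pos h3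
    rw [h2] at h1
    exact .inr ⟨by omega, e.symm x, by rw [orderOf_coe, e.symm.orderOf_eq, hx]⟩

/-- **the shape of the group** -/
theorem shape (cf : Cf) [Nontrivial G] (h0 : ∀ p : ℕ, p.Prime → pCore p G = ⊥)
    (h5 : ∀ g : G, (orderOf g).Prime → orderOf g ≤ 5) (h10 : ∀ g : G, orderOf g ≠ 10 ∧ orderOf g ≠ 15) :
    (∃ g : G, orderOf g = 5) ∧ ((∃ q ∈ cand, Nat.card G = q.1 ∧ Nat.card {g : G // orderOf g = 5} ≤ q.2) ∨
      Nat.card G ≤ 51840 ∧ ∃ g : G, orderOf g = 9) := by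
  obtain ⟨S, h1, h2, h3⟩ := soc5 cf h0 h5 h10
  obtain ⟨u, -, ou⟩ := exists_ord S Nat.prime_five (by have := h3.card; omega)
  exact ⟨⟨u, ou⟩, shape_of h2 h3⟩

end Cfsg.Agent.N2.Sp5
end

-- part: N2/Ex/Sim/L3A
section
prune_inst 0x10105500450010000001000080000020300000000000800000800200030940008d028000000000021004800000040000004400804000000000000000000401001000060000000008000000000000000000000000000000000000000000000000000000000
set_option linter.all false
open scoped Cfsg.Agent.FastGrp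

/-!
# N2 (S3519), box `L3`: a Singer element and an involution generate `SL₃(q)`, `q ≠ 4` (helper92)

`ov` is adapted from `H895.SLT.row_three`.
-/

set_option autoImplicit false
set_option linter.unusedSectionVars false

namespace Cfsg.Agent.N2.Ex.Sm.LT

open Cfsg Cfsg.Geo Cfsg.Agent.H895.SLT
open scoped MatrixGroups Matrix

variable {F : Type} [Field F] [Fintype F]

/-- no maximal subgroup contains a Singer element and an involution -/
theorem ov (h4 : Fintype.card F ≠ 4) {K : Subalgebra F (Matrix (Fin 3) (Fin 3) F)} (hK : IsFieldSubalgebra 3 K)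
    {c t : GL (Fin 3) F} (hcK : (c : Matrix (Fin 3) (Fin 3) F) ∈ K) (hcS : c ∈ S3 F)
    (hord : orderOf c = Fintype.card F ^ 2 + Fintype.card F + 1) (ht2 : t * t = 1) (ht1 : t ≠ 1)
    {M : Subgroup (GL (Fin 3) F)} (hM : IsMaximalIn (S3 F) M) (hcM : c ∈ M) (htM : t ∈ M) : False := by
  classical
  have hfin : Finite (GL (Fin 3) F) := inferInstance
  obtain ⟨q, hq⟩ : ∃ q, q = Fintype.card F := ⟨_, rfl⟩
  have hq2 : 2 ≤ q := by rw [hq]; exact Fintype.one_lt_card
  obtain ⟨p, n, hchar, hp, hn, hpn⟩ : ∃ p n : ℕ, CharP F p ∧ p.Prime ∧ 0 < n ∧ Fintype.card F = p ^ n := by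
    obtain ⟨p, hc, n, hp, h⟩ := FiniteField.card' F
    exact ⟨p, n, hc, hp, n.pos, h⟩
  have hpf : Fact p.Prime := ⟨hp⟩
  have hm7 : 7 ≤ q ^ 2 + q + 1 := by nlinarith only [hq, hq2]
  have hdvd : q ^ 2 + q + 1 ∣ Nat.card M := by
    rw [hq, ← hord, ← Subgroup.orderOf_mk c hcM]
    exact orderOf_dvd_natCard _
  have hns1 : ¬ ∃ a : F, (c : Matrix (Fin 3) (Fin 3) F) = a • (1 : Matrix (Fin 3) (Fin 3) F) := by
    have := not_scalar_pow hcS hord (m := 1) (by norm_num) (by rw [← hq]; omega)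
    simpa only [_root_.not_exists, _root_.pow_one] using this
  rcases S5775.result M hM with ⟨W, h0, h1, rfl⟩ | ⟨h5, D, hD, rfl⟩ | ⟨-, K', hK', rfl⟩ | ⟨F₀, r, P, hr, hcard, rfl⟩ |
    ⟨p', R', hp', hF', hp3', hR', rfl⟩ | ⟨hodd, Q', hQ', rfl⟩ | ⟨σ, f, hf, rfl⟩ | hres
  · exact irr_excl (field_irr hK hcK hns1 hcM) h0 h1 inf_le_left
  · obtain ⟨v, hv, a, hva⟩ := decomp_six hD hcM.1
    -- `c ^ 6` is scalar
    have h6K : (c : Matrix (Fin 3) (Fin 3) F) ^ 6 - a • (1 : Matrix (Fin 3) (Fin 3) F) ∈ K :=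
      K.sub_mem (K.pow_mem hcK 6) (K.smul_mem K.one_mem a)
    have h6 : (c : Matrix (Fin 3) (Fin 3) F) ^ 6 - a • (1 : Matrix (Fin 3) (Fin 3) F) = 0 := by
      by_contra hne
      obtain ⟨u, hu⟩ := isUnit_of_mem hK _ h6K hne
      apply hv
      have hz : (u : Matrix (Fin 3) (Fin 3) F) *ᵥ v = 0 := by
        rw [hu, Matrix.sub_mulVec, Matrix.smul_mulVec, Matrix.one_mulVec, ← Units.val_pow_eq_pow_val, hva, sub_self]
      calc v = ((u⁻¹ : (Matrix (Fin 3) (Fin 3) F)ˣ) : Matrix (Fin 3) (Fin 3) F) *ᵥ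
            ((u : Matrix (Fin 3) (Fin 3) F) *ᵥ v) := by
            rw [Matrix.mulVec_mulVec, Units.inv_mul, Matrix.one_mulVec]
        _ = 0 := by rw [hz, Matrix.mulVec_zero]
    refine not_scalar_pow hcS hord (m := 6) (by norm_num) ?_ ⟨a, sub_eq_zero.1 h6⟩
    nlinarith only [h5]
  · exact ht1 (no_involution hK' htM.1 htM.2 ht2)
  · have hc1 : 2 ≤ Nat.card F₀ := by
      have : Finite F₀ := inferInstance
      exact Finite.one_lt_card
    have hc2 : Nat.card F₀ ^ 2 ≤ q := pow_two_le hr (by rw [hq, hcard]) (by omega)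
    apply arith_sub hc1 hc2 (by rw [hq]; exact h4)
    rw [hq]
    exact sub_root hK (by nlinarith only [hq, hq2, hc1, hc2]) hcK hcS hord hcM.1
  · have h3 : (3 : F) ≠ 0 := by
      intro h
      have h5 : ((3 : ℕ) : F) = 0 := by exact_mod_cast h
      rw [CharP.cast_eq_zero_iff F p] at h5
      have h6 : p = 3 := (Nat.prime_dvd_prime_iff_eq hp Nat.prime_three).1 h5
      have h7 : p ∣ p' := by rw [← hF', hpn]; exact dvd_pow_self p hn.ne'
      rw [h6] at h7
      omega
    obtain ⟨ω, hω⟩ : ∃ ω : F, ω * ω + ω + 1 = 0 := H960.exists_omega (by rw [hF']; omega)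
    obtain ⟨hc, he, hn'⟩ := data_card hR'
    obtain ⟨Q, a, b, ω', HH⟩ := H960.exists_heis h3 hω hc he hn'
    have hqp : q = p' := by rw [hq, hF']
    have hp'1 : 4 ≤ p' := by
      have := hp'.two_le
      omega
    obtain ⟨r, hr, hr2, hr3, hrd⟩ := exists_prime_factor (q := q) (by omega) (by omega)
    have : Fact r.Prime := ⟨hr⟩
    obtain ⟨k, hk⟩ := hrd
    have hk' : orderOf c = r * k := by rw [hord, ← hq, hk]
    have hk0 : k ≠ 0 := by
      rintro rfl
      rw [mul_zero] at hk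
      omega
    have hck : (c ^ k) ^ r = 1 := by
      rw [← pow_mul, mul_comm, ← hk', pow_orderOf_eq_one]
    have h1 := norm_prime h3 hc HH hr2 hr3 (y := c ^ k) (Subgroup.pow_mem _ hcM.1 k)
      ((S3 F).pow_mem hcS k) hck
    have h2 := orderOf_dvd_of_pow_eq_one h1
    rw [hk'] at h2
    have h5 := Nat.le_of_dvd (Nat.pos_of_ne_zero hk0) h2
    have h6 := hr.two_le
    nlinarith only [hk, h5, h6]
  · have hq3 : 3 ≤ q := by
      rcases Nat.lt_or_ge q 3 with h | h
      · have : q = 2 := by omega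
        rw [← hq, this] at hodd
        exact absurd hodd (by decide)
      · exact h
    apply arith_quad hq3
    have := form_root hK p 0 (σ := RingHom.id F) (fun x => by simp) (Sesq.of_quad hQ') hcK hcS hord
      (quad_le_sim hcM.1)
    rw [pow_zero, ← hq] at this
    exact this
  · obtain ⟨q₁, hq₁, hσ⟩ := unit_card hf
    have hk : ∃ k, q₁ = p ^ k := by
      have h1 : q₁ ∣ p ^ n := by
        rw [← hpn, hq₁]; exact dvd_pow_self q₁ two_ne_zero
      obtain ⟨k, -, hk⟩ := (Nat.dvd_prime_pow hp).1 h1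
      exact ⟨k, hk⟩
    obtain ⟨k, hk⟩ := hk
    have h2 : 2 ≤ q₁ := by
      rcases Nat.lt_or_ge q₁ 2 with h | h
      · have h1 : q₁ ^ 2 ≤ 1 := by nlinarith only [h]
        omega
      · exact h
    apply arith_unit h2 (hq.trans hq₁)
    have := form_root hK p k (σ := (σ : F →+* F)) (fun x => by
      rw [← hk]; exact hσ x) (Sesq.of_unitary hf) hcK hcS hord hcM.1
    rw [← hk, ← hq] at this
    exact this
  · obtain ⟨P, p', hcore, hp', hchar', h | ⟨⟨e⟩, h⟩⟩ := S5776.result M hM hres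
    · obtain ⟨⟨e⟩, hFp, hp2, -⟩ := h
      rcases arith_l hq2 (hdvd.trans (card_of_l hcore hM.1.le e)) with h | h
      · rw [← hq, h] at hFp; exact hp2 hFp.symm
      · rw [← hq, h] at hFp; rw [← hFp] at hp'; norm_num at hp'
    · exact arith_a hq2 (hdvd.trans (card_of_a hcore hM.1.le e))

theorem exists_max {X : Type} [Group X] [Finite X] {K M : Subgroup X} (h : M < K) :
    ∃ M' : Subgroup X, M ≤ M' ∧ IsMaximalIn K M' := by
  obtain ⟨M', ⟨h1, h2⟩, h3⟩ := Set.Finite.exists_maximalFor (fun M' : Subgroup X => Nat.card M')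
    {M' : Subgroup X | M ≤ M' ∧ M' < K} (Set.toFinite _) ⟨M, le_rfl, h⟩
  refine ⟨M', h1, h2, fun N hN hNK => ?_⟩
  rcases eq_or_lt_of_le hNK with h4 | h4
  · exact Or.inr h4
  · exact Or.inl (Subgroup.eq_of_le_of_card_ge hN (h3 (j := N) ⟨h1.trans hN, h4⟩ (Subgroup.card_le_of_le hN))).symm

theorem fac {q : ℕ} (hq : 1 ≤ q) : q ^ 3 - 1 = (q - 1) * (q ^ 2 + q + 1) := by
  obtain ⟨n, rfl⟩ := Nat.exists_eq_add_of_le' hq
  rw [Nat.add_sub_cancel]
  exact Nat.sub_eq_of_eq_add (by ring)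

/-- a Singer element in companion form -/
theorem exists_cg : ∃ (a b : F) (K : Subalgebra F (Matrix (Fin 3) (Fin 3) F)), IsFieldSubalgebra 3 K ∧ cmat a b ∈ K ∧
    orderOf (cg a b) = Fintype.card F ^ 2 + Fintype.card F + 1 := by
  classical
  obtain ⟨p, hp⟩ := CharP.exists F
  have : Fact p.Prime := ⟨CharP.char_is_prime F p⟩
  have : NeZero 3 := ⟨three_ne_zero⟩
  let L := FiniteField.Extension F p 3
  have hL : Module.finrank F L = 3 := FiniteField.finrank_extension F p 3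
  have hq : 1 < Fintype.card F := Fintype.one_lt_card
  have hc : Nat.card Lˣ = Fintype.card F ^ 3 - 1 := by
    rw [Nat.card_units, Module.natCard_eq_pow_finrank (K := F), hL, Nat.card_eq_fintype_card]
  obtain ⟨g, hg⟩ := IsCyclic.exists_generator (α := Lˣ)
  have h1 : orderOf (g ^ (Fintype.card F - 1)) = Fintype.card F ^ 2 + Fintype.card F + 1 := by
    rw [orderOf_pow' g (by omega), orderOf_eq_card_of_forall_mem_zpowers hg, hc, fac hq.le, Nat.gcd_mul_right_left,
      Nat.mul_div_cancel_left _ (by omega)]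
  obtain ⟨l, hl⟩ : ∃ l : L, l = ((g ^ (Fintype.card F - 1) : Lˣ) : L) := ⟨_, rfl⟩
  have h2 : orderOf l = Fintype.card F ^ 2 + Fintype.card F + 1 := by rw [hl, orderOf_units, h1]
  have h3 : Algebra.norm F l = 1 := by
    rw [hl, Units.val_pow_eq_pow_val, map_pow]
    exact FiniteField.pow_card_sub_one_eq_one _ (Algebra.norm_ne_zero_iff.2 g.ne_zero)
  have h4 : (minpoly F l).natDegree = 3 := by
    have h5 := minpoly.degree_dvd (K := F) (Algebra.IsIntegral.isIntegral l)
    rw [hL] at h5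
    refine ((Nat.dvd_prime Nat.prime_three).1 h5).resolve_left fun h6 => ?_
    obtain ⟨u, hu⟩ := minpoly.natDegree_eq_one_iff.1 h6
    have h7 : u ≠ 0 := fun e => by
      rw [e, map_zero, hl] at hu
      exact Units.ne_zero _ hu.symm
    have h8 : l ^ (Fintype.card F - 1) = 1 := by
      rw [← hu, ← map_pow, FiniteField.pow_card_sub_one_eq_one _ h7, map_one]
    have h9 := Nat.le_of_dvd (by omega) (h2 ▸ orderOf_dvd_of_pow_eq_one h8)
    omega
  have h5 : LinearIndependent F fun i : Fin 3 => l ^ (i : ℕ) := by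
    have := linearIndependent_pow (K := F) l
    rwa [h4] at this
  let B : Module.Basis (Fin 3) F L := basisOfLinearIndependentOfCardEqFinrank h5 (by rw [hL, Fintype.card_fin])
  have hB : ∀ i, B i = l ^ (i : ℕ) := fun i => by
    simp only [B, coe_basisOfLinearIndependentOfCardEqFinrank]
  have c0 : ∀ i, Algebra.leftMulMatrix B l i 0 = Finsupp.single (1 : Fin 3) (1 : F) i := fun i => by
    rw [Algebra.leftMulMatrix_eq_repr_mul, ← B.repr_self, hB, hB]
    simp
  have c1 : ∀ i, Algebra.leftMulMatrix B l i 1 = Finsupp.single (2 : Fin 3) (1 : F) i := fun i => by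
    rw [Algebra.leftMulMatrix_eq_repr_mul, ← B.repr_self, hB, hB]
    simp only [sq, _root_.Fin.isValue, _root_.Fin.coe_ofNat_eq_mod, _root_.Nat.one_mod, _root_.pow_one, _root_.Nat.mod_succ]
  have hd : Algebra.leftMulMatrix B l 0 2 = 1 := by
    rw [Algebra.norm_eq_matrix_det B, Matrix.det_fin_three] at h3
    simpa [c0, c1] using h3
  have he : Algebra.leftMulMatrix B l = cmat (Algebra.leftMulMatrix B l 2 2) (-Algebra.leftMulMatrix B l 1 2) := by
    ext i j
    (revert i j; simp only [cmat, c0, c1, hd, _root_.Fin.forall_fin_succ, Fin.isValue, _root_.neg_neg, _root_.Matrix.of_apply, _root_.Matrix.cons_val', _root_.Matrix.cons_val_fin_one, _root_.Matrix.cons_val_zero, _root_.Matrix.cons_val_succ, _root_.Fin.succ_zero_eq_one, _root_.Fin.succ_one_eq_two, _root_.IsEmpty.forall_iff, _root_.and_true, _root_.ne_eq, _root_.zero_ne_one, _root_.not_false_eq_true, _root_.Finsupp.single_eq_of_ne, Fin.reduceEq, _root_.and_self, _root_.Finsupp.single_eq_same])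
  have hi := Algebra.leftMulMatrix_injective B
  refine ⟨_, _, (Algebra.leftMulMatrix B).range, ⟨?_, ?_, ?_⟩, ⟨l, he⟩, ?_⟩
  · rintro _ ⟨x, rfl⟩ _ ⟨y, rfl⟩
    change Algebra.leftMulMatrix B x * Algebra.leftMulMatrix B y = Algebra.leftMulMatrix B y * Algebra.leftMulMatrix B x
    rw [← map_mul, ← map_mul, mul_comm]
  · rintro _ ⟨x, rfl⟩ h0
    refine ⟨_, ⟨x⁻¹, rfl⟩, ?_⟩
    change Algebra.leftMulMatrix B x * Algebra.leftMulMatrix B x⁻¹ = 1
    rw [← map_mul, mul_inv_cancel₀ fun e => h0 (by rw [e]; exact map_zero _), map_one]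
  · rw [← (AlgEquiv.ofInjective _ hi).toLinearEquiv.finrank_eq, hL]
  · rw [← orderOf_units, ← h2, ← orderOf_injective (Algebra.leftMulMatrix B).toMonoidHom hi l]
    exact congrArg orderOf he.symm

/-- the involution -/
def xm (a b : F) : Matrix (Fin 3) (Fin 3) F := !![1, 0, 0; a - b, -1, 0; a + b, 0, -1]

/-- the conjugating element -/
def wm : Matrix (Fin 3) (Fin 3) F := !![0, 0, 1; 0, -1, 0; 1, 0, 0]

theorem xm_det (a b : F) : (xm a b).det = 1 := by
  rw [Matrix.det_fin_three]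
  simp [xm]

theorem wm_det : (wm : Matrix (Fin 3) (Fin 3) F).det = 1 := by
  rw [Matrix.det_fin_three]
  simp [wm]

theorem xm_sq (a b : F) : xm a b * xm a b = 1 := by
  ext i j
  (revert i j; simp only [xm, Matrix.mul_apply, Fin.sum_univ_three, _root_.Fin.forall_fin_succ, _root_.Matrix.of_apply, _root_.Matrix.cons_val', _root_.Matrix.cons_val_fin_one, Fin.isValue, _root_.Matrix.cons_val_zero, _root_.Matrix.cons_val_one, _root_.Matrix.cons_val, _root_.mul_one, _root_.Matrix.cons_val_succ, _root_.MulZeroClass.mul_zero, _root_.mul_neg, _root_.zero_add, _root_.add_zero, _root_.IsEmpty.forall_iff, _root_.and_true, _root_.MulZeroClass.zero_mul, _root_.Matrix.one_apply_eq, _root_.neg_zero, Nat.reduceAdd, _root_.Fin.succ_zero_eq_one, _root_.ne_eq, _root_.zero_ne_one, _root_.not_false_eq_true, _root_.Matrix.one_apply_ne, _root_.Fin.succ_one_eq_two, Fin.reduceEq, _root_.and_self, _root_.Fin.succ_ne_zero, _root_.neg_mul, _root_.one_mul, _root_.neg_sub,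 _root_.sub_add_sub_cancel, _root_.sub_self, _root_.neg_neg, _root_.neg_add_rev, _root_.add_add_neg_add_cancel, _root_.add_neg_cancel, _root_.true_and])

theorem rel (a b : F) : xm a b * cmat a b * wm * cmat a b = wm := by
  ext i j
  (revert i j; simp only [xm, wm, cmat, Matrix.mul_apply, Fin.sum_univ_three, _root_.Fin.forall_fin_succ, _root_.Matrix.cons_mul, _root_.Nat.succ_eq_add_one, Nat.reduceAdd, _root_.Matrix.vecMul_cons, _root_.Matrix.head_cons, _root_.one_smul, _root_.Matrix.tail_cons, _root_.zero_smul, _root_.Matrix.empty_vecMul, _root_.add_zero, _root_.Matrix.smul_cons, _root_.smul_eq_mul, _root_.MulZeroClass.mul_zero, _root_.mul_one, _root_.Matrix.smul_empty, _root_.neg_smul, _root_.Matrix.neg_cons, _root_.neg_zero, _root_.neg_neg, _root_.Matrix.neg_empty, _root_.Matrix.add_cons, _root_.zero_add, _root_.sub_add_cancel, _root_.Matrix.empty_add_empty, _root_.add_neg_cancel_comm, _root_.Matrix.empty_mul, _root_.Equiv.symm_apply_apply,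 _root_.Matrix.of_apply, _root_.Matrix.cons_val', _root_.Matrix.cons_val_fin_one, Fin.isValue, _root_.Matrix.cons_val_zero, _root_.Matrix.cons_val_one, _root_.Matrix.cons_val, _root_.Matrix.cons_val_succ, _root_.mul_neg, _root_.forall_const, _root_.true_and, _root_.MulZeroClass.zero_mul, _root_.neg_mul, _root_.one_mul, _root_.add_neg_cancel, _root_.implies_true, _root_.and_self])

theorem det_sub (a : F) : (cmat a a - 1).det = 0 := by
  rw [Matrix.det_fin_three]
  simp [cmat]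

/-- an element of `SL₃` -/
def sl (M : Matrix (Fin 3) (Fin 3) F) (h : M.det = 1) : Matrix.SpecialLinearGroup (Fin 3) F := ⟨M, h⟩

/-- **generation** -/
theorem gen (h4 : Fintype.card F ≠ 4) : ∃ x y w : Matrix.SpecialLinearGroup (Fin 3) F, x ^ 2 = 1 ∧ x * y = w * y⁻¹ * w⁻¹ ∧
    y ^ ((Fintype.card F ^ 2 + Fintype.card F + 1) / Nat.gcd 3 (Fintype.card F - 1)) ∈
      Subgroup.center (Matrix.SpecialLinearGroup (Fin 3) F) ∧
    Subgroup.closure ({x, y} : Set (Matrix.SpecialLinearGroup (Fin 3) F)) = ⊤ := by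
  classical
  obtain ⟨a, b, K, hK, hc, ho⟩ := exists_cg (F := F)
  have hq : 1 < Fintype.card F := Fintype.one_lt_card
  have hab : a ≠ b := by
    rintro rfl
    have h1 := isUnit_of_mem hK _ (K.sub_mem hc K.one_mem) fun e => cg_ne a a (Units.ext (sub_eq_zero.1 e))
    exact ((Matrix.isUnit_iff_isUnit_det _).1 h1).ne_zero (det_sub a)
  refine ⟨sl _ (xm_det a b), sl _ (cmat_det a b), sl _ wm_det, ?_, ?_, ?_, ?_⟩
  · rw [sq]
    exact Subtype.ext (xm_sq a b)
  · rw [eq_mul_inv_iff_mul_eq, eq_mul_inv_iff_mul_eq]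
    exact Subtype.ext (rel a b)
  · have hN : cmat a b ^ (Fintype.card F ^ 2 + Fintype.card F + 1) = 1 := by
      have := congrArg Units.val (pow_orderOf_eq_one (cg a b))
      rwa [ho, Units.val_pow_eq_pow_val] at this
    rcases (Nat.dvd_prime Nat.prime_three).1 (Nat.gcd_dvd_left 3 (Fintype.card F - 1)) with h | h
    · have h5 : sl _ (cmat_det a b) ^ (Fintype.card F ^ 2 + Fintype.card F + 1) = 1 := Subtype.ext hN
      rw [h, Nat.div_one, h5]
      exact one_mem _
    have h3 : 3 ∣ Fintype.card F - 1 := h ▸ Nat.gcd_dvd_right 3 _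
    obtain ⟨ω, hω⟩ := H960.exists_omega h3
    obtain ⟨n, hn⟩ : 3 ∣ Fintype.card F ^ 2 + Fintype.card F + 1 := by
      obtain ⟨k, hk⟩ := h3
      exact ⟨3 * k ^ 2 + 3 * k + 1, by rw [show Fintype.card F = 3 * k + 1 by omega]; ring⟩
    rw [h, hn, Nat.mul_div_cancel_left _ three_pos]
    rw [hn, pow_mul'] at hN
    obtain ⟨z, hz⟩ : ∃ z, z = cmat a b ^ n := ⟨_, rfl⟩
    have hzK : z ∈ K := hz ▸ K.pow_mem hc n
    rw [← hz] at hN
    have key : ∀ u : F, z = u • 1 → (sl _ (cmat_det a b) : Matrix.SpecialLinearGroup (Fin 3) F) ^ n ∈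
        Subgroup.center (Matrix.SpecialLinearGroup (Fin 3) F) := fun u hu => Subgroup.mem_center_iff.2 fun g => Subtype.ext (by
      change g.1 * cmat a b ^ n = cmat a b ^ n * g.1
      rw [← hz, hu, Matrix.mul_smul, Matrix.smul_mul, mul_one, one_mul])
    have un : ∀ u : F, z ≠ u • 1 → IsUnit (z - u • 1) := fun u hu =>
      isUnit_of_mem hK _ (K.sub_mem hzK (K.smul_mem K.one_mem u)) (sub_ne_zero.2 hu)
    by_contra hcon
    have h5 := ((un 1 fun e => hcon (key _ e)).mul (un ω fun e => hcon (key _ e))).mul (un (ω * ω) fun e => hcon (key _ e))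
    refine h5.ne_zero ?_
    have h6 : (z - (1 : F) • 1) * (z - ω • 1) * (z - (ω * ω) • 1) =
        z ^ 3 - (ω * ω + ω + 1) • z ^ 2 + (ω * (ω * ω + ω + 1)) • z - ((ω - 1) * (ω * ω + ω + 1) + 1) • 1 := by
      simp only [sub_mul, mul_sub, smul_mul_assoc, mul_smul_comm, mul_one, one_mul, pow_succ, pow_zero]
      module
    rw [h6, hω, hN]
    simp
  · by_contra hne
    have hlt : (Subgroup.closure ({sl _ (xm_det a b), sl _ (cmat_det a b)} :
        Set (Matrix.SpecialLinearGroup (Fin 3) F))).map Matrix.SpecialLinearGroup.toGL < S3 F := by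
      refine lt_of_le_of_ne ?_ fun e => hne (eq_top_iff.2 fun g _ => ?_)
      · rintro _ ⟨g, -, rfl⟩
        exact (H905.mem_sl_iff _).2 g.2
      · obtain ⟨g', h1, h2⟩ := e.ge ((H905.mem_sl_iff (Matrix.SpecialLinearGroup.toGL g)).2 g.2)
        exact Matrix.SpecialLinearGroup.toGL_injective h2 ▸ h1
    obtain ⟨M, h1, h2⟩ := exists_max hlt
    refine ov h4 hK (c := cg a b) (t := gl (xm a b) (xm_det a b)) hc (cg_mem a b) ho (Units.ext (xm_sq a b)) (fun e => hab ?_) h2
      (h1 ⟨_, Subgroup.subset_closure (Or.inr rfl), rfl⟩) (h1 ⟨_, Subgroup.subset_closure (Or.inl rfl), rfl⟩)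
    have h3 : xm a b 1 0 = (1 : Matrix (Fin 3) (Fin 3) F) 1 0 := congrArg (fun g : GL (Fin 3) F => g.1 1 0) e
    simpa [xm, sub_eq_zero] using h3

end Cfsg.Agent.N2.Ex.Sm.LT

private theorem dce_c2d95ebc5baf : _root_.True := by
  try have : _root_.True := by simp only [_root_.Cfsg.Agent.N2.Ex.Sm.LT.xm.eq_1]
  try have : _root_.True := by simp only [_root_.Cfsg.Agent.N2.Ex.Sm.LT.wm.eq_1]
  exact _root_.True.intro
end
end
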