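import Cfsg.Agent.N2.Defs_m3
import Cfsg.Agent.SB.SporF.RowCo3
import Cfsg.Agent.SporRec.SuzPerm
import Cfsg.Agent.SporadicRecognition.SuzOrder
import Cfsg.Agent.H494.F22.Rep_mg
import Cfsg.Agent.Fischer.Fi22Order
import Cfsg.Agent.Prune
set_option linter.all false

-- part: N2/Tri/PEng
section
set_option linter.all false
open scoped Cfsg.Agent.FastGrp

/-!
# N2 (S3519): generating triples in a permutation model (helper85)
-/

set_option autoImplicit false

namespace Cfsg.Agent.N2.Tg.PE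

open Subgroup Cfsg.Agent.SB.Spor

/-- put the tables of the words `codes` in front of the environment -/
noncomputable def ext (lk : ℕ → ℕ → ℕ) (mk : (ℕ → ℕ) → ℕ) (codes : List ℕ) : List ℕ → (List ℕ → Bool) → Bool :=
  List.rec (fun E k => k E) (fun c _ ih E k => decF lk E (fun f => frc (mk f) fun t => ih (t :: E) k) (nat_lit 200) c idf) codes

/-- `x ^ a = y ^ b = (x y) ^ c = 1` on the base, and the group generated by `x`, `y` has at least `N` elements -/
noncomputable def triChk (lk : ℕ → ℕ → ℕ) (mk : (ℕ → ℕ) → ℕ) (n N : ℕ) (E0 : List ℕ) (cx cy a b c : ℕ) (codes : List ℕ)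
    (levels : List (ℕ × List ℕ)) : Bool :=
  decF lk E0 (fun fx => frc (mk fx) fun tx => decF lk E0 (fun fy => frc (mk fy) fun ty =>
    cnd (eqB (levels.map Prod.fst) (itr (lk tx) a) idf) (cnd (eqB (levels.map Prod.fst) (itr (lk ty) b) idf)
      (cnd (eqB (levels.map Prod.fst) (itr (fun q => lk tx (lk ty q)) c) idf)
        (ext lk mk codes [ty, tx] fun E => Nat.ble N (chain lk E n (fun _ => true) levels [])) false) false) false)
    (nat_lit 200) cy idf) (nat_lit 200) cx idf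

variable {G : Type*} [Group G] {n : ℕ} {M : PM G n} {lk : ℕ → ℕ → ℕ} {mk : (ℕ → ℕ) → ℕ}
  {ver : (ℕ → ℕ) → ℕ → (ℕ → ℕ) → Bool}

theorem ext_spec (hT : M.Tab lk mk ver) {S : Subgroup G} (codes : List ℕ) (k : List ℕ → Bool) :
    ∀ E : List ℕ, (∀ t ∈ E, ∃ g ∈ S, M.Rf g (lk t)) → ext lk mk codes E k = true →
      ∃ E' : List ℕ, (∀ t ∈ E', ∃ g ∈ S, M.Rf g (lk t)) ∧ k E' = true := by
  induction codes with
  | nil => exact fun E hE h => ⟨E, hE, h⟩
  | cons c codes ih =>
    intro E hE h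
    obtain ⟨g, hg, f, h1, h2⟩ := decF_spec hE (fun f => frc (mk f) fun t => ext lk mk codes (t :: E) k) (nat_lit 200) c 1 idf
      (one_mem _) PM.rf_one
    have e : ext lk mk (c :: codes) E k = frc (mk f) fun t => ext lk mk codes (t :: E) k := h2
    rw [e, frc_eq] at h
    refine ih _ (fun t ht => ?_) h
    rcases List.mem_cons.1 ht with rfl | ht
    exacts [⟨g, hg, hT.mk_spec g f h1⟩, hE t ht]

theorem gen_of_chk [Finite G] (hT : M.Tab lk mk ver) {E0 : List ℕ} (hE : AllIn M lk E0) {N : ℕ} (hN : Nat.card G ≤ N)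
    {cx cy a b c : ℕ} {codes : List ℕ} {levels : List (ℕ × List ℕ)}
    (h : triChk lk mk n N E0 cx cy a b c codes levels = true) :
    ∃ x y : G, x ^ a = 1 ∧ y ^ b = 1 ∧ (x * y) ^ c = 1 ∧ closure ({x, y} : Set G) = ⊤ := by
  unfold triChk at h
  obtain ⟨x, -, fx, hx, e1⟩ := decF_spec hE.top _ (nat_lit 200) cx 1 idf (mem_top _) PM.rf_one
  rw [e1, frc_eq] at h
  obtain ⟨y, -, fy, hy, e2⟩ := decF_spec hE.top _ (nat_lit 200) cy 1 idf (mem_top _) PM.rf_one
  rw [e2, frc_eq] at h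
  have hx' := hT.mk_spec x fx hx
  have hy' := hT.mk_spec y fy hy
  obtain ⟨h1, h⟩ := cnd_and h
  obtain ⟨h2, h⟩ := cnd_and h
  obtain ⟨h3, h⟩ := cnd_and h
  obtain ⟨E, h4, h5⟩ := ext_spec hT (S := closure {x, y}) codes _ _ (fun t ht => by
    rcases List.mem_cons.1 ht with rfl | ht
    · exact ⟨y, subset_closure (by simp), hy'⟩
    · exact ⟨x, subset_closure (by simp), List.mem_singleton.1 ht ▸ hx'⟩) h
  have h6 := chain_spec (H := closure {x, y}) h4 (okg := fun _ => true) (fun _ hg _ _ _ => hg) levels []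
  rw [Fx_nil] at h6
  have h7 := (Nat.mul_le_mul_right _ (Nat.le_of_ble_eq_true h5)).trans h6
  have h8 : closure ({x, y} : Set G) = ⊤ := eq_top_of_le_card _
    (hN.trans ((Nat.le_mul_of_pos_right _ Nat.card_pos).trans h7))
  rw [h8, card_top, top_inf_eq] at h7
  have h9 : Fx M (levels.map Prod.fst) = ⊥ := eq_bot_of_card_le _ (Nat.le_of_mul_le_mul_left
    ((h7.trans hN).trans (mul_one N).ge) (Nat.card_pos.trans_le hN))
  have key : ∀ {g : G} {f : ℕ → ℕ}, M.Rf g f → eqB (levels.map Prod.fst) f idf = true → g = 1 := fun {g f} hg he =>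
    mem_bot.1 (h9 ▸ mem_Fx.2 fun b hb hn => (hg b hn).trans (of_eqB he b hb))
  exact ⟨x, y, key (hx'.pow a) h1, key (hy'.pow b) h2, key ((hx'.mul hy').pow c) h3, h8⟩

theorem any_of_gen {a b c : ℕ} (h : ∃ x y : G, x ^ a = 1 ∧ y ^ b = 1 ∧ (x * y) ^ c = 1 ∧ closure ({x, y} : Set G) = ⊤) :
    ∃ c, Tri G a b c := by
  obtain ⟨x, y, h1, h2, -, h3⟩ := h
  exact ⟨_, x, y, h1, h2, rfl, h3⟩

theorem tri_of_gen {a b c : ℕ} (hc : c.Prime) (ha : 0 < a) (hG : a < Nat.card G)
    (h : ∃ x y : G, x ^ a = 1 ∧ y ^ b = 1 ∧ (x * y) ^ c = 1 ∧ closure ({x, y} : Set G) = ⊤) : Tri G a b c := by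
  obtain ⟨x, y, h1, h2, h3, h4⟩ := h
  have : Fact c.Prime := ⟨hc⟩
  refine ⟨x, y, h1, h2, orderOf_eq_prime h3 fun h5 => ?_, h4⟩
  have h6 : zpowers x = ⊤ := top_le_iff.1 (h4 ▸ (closure_le _).2 (by
    rintro _ (rfl | rfl)
    · exact mem_zpowers _
    · exact eq_inv_of_mul_eq_one_right h5 ▸ inv_mem (mem_zpowers x)))
  rw [← card_top, ← h6, Nat.card_zpowers] at hG
  exact absurd (orderOf_le_of_pow_eq_one ha h1) (not_le.2 hG)

end Cfsg.Agent.N2.Tg.PE
end

-- part: N2/Tri/Suz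
section
set_option linter.all false
open scoped Cfsg.Agent.FastGrp

/-!
# N2 (S3519): a generating triple of `Suz` (helper85)
-/

set_option autoImplicit false
set_option maxRecDepth 100000

namespace Cfsg.Agent.N2.Tg.Suz

open Cfsg Cfsg.Agent.SB.Spor Cfsg.Agent.N2.Tg.PE
open Cfsg.Agent.SporRec.SuzPerm

theorem ck : triChk (plk 12 4095) (pmk 12 4095 1782 11) 1782 448345497600 [tA, tB, tC, tD, tE, tF, tG] 2 34589718534977074626170228840836633347078156058585967866635931046970117 2 3 21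
    [258, 131587, 36966110894745583874, 37110227190939779842, 2203335131394, 37038449968088744706, 9463324108683682644226, 2432055848903958713205507]
    [(0, [8, 7]), (1, [6, 5]), (2, [4, 3]), (160, [2, 1])] = true := by decide +kernel

theorem ins (x : Spor.Suz.Gen) : (PM.ofHom φ).In (plk 12 4095) (tab x) :=
  ⟨_, PM.rf_ofHom φ fun i => by rw [φ_of]; exact gen_val x i⟩

theorem tri_suz {N : Type} [Group N] (h : Spor.IsoSuz N) : ∃ c, Tri N 2 3 c := by
  obtain ⟨e⟩ := h
  have h1 := SporadicRecognition.SuzOrder.card_Suz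
  have : Finite Spor.Suz := Nat.finite_of_card_ne_zero (by rw [h1]; norm_num)
  obtain ⟨c, h2⟩ := any_of_gen (gen_of_chk (perm_tab (PM.ofHom φ) (by norm_num) (by norm_num) (by norm_num))
    (AllIn.cons (ins .a) (AllIn.cons (ins .b) (AllIn.cons (ins .c) (AllIn.cons (ins .d) (AllIn.cons (ins .e)
      (AllIn.cons (ins .f) (AllIn.cons (ins .g) AllIn.nil))))))) h1.le ck)
  exact ⟨c, h2.congr e.symm⟩

end Cfsg.Agent.N2.Tg.Suz
end

-- part: N2/Tri/Fi22
section
set_option linter.all false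
open scoped Cfsg.Agent.FastGrp

/-!
# N2 (S3519): a generating triple of `Fi22` (helper85)
-/

set_option autoImplicit false
set_option maxRecDepth 100000

namespace Cfsg.Agent.N2.Tg.Fi22

open Cfsg Cfsg.Agent.SB.Spor Cfsg.Agent.N2.Tg.PE
open Cfsg.Agent.H494.F22 Cfsg.Agent.H494.F22.Dat

theorem ck : triChk (plk 12 4095) (pmk 12 4095 3510 12) 3510 64561751654400 [t0, t1, t2, t3, t4, t5, t6, t7, t8] 328449 1865391595730156071178995462 2 3 22
    [258, 131587, 16908546, 55556970160859513602, 18591423315562266881, 3636259302035713947796226, 8623555074, 159078931307401344548253860611, 238617797220630748315766752003, 65793, 12918588164, 1412885410743557]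
    [(0, [12, 11]), (1, [10, 9]), (35, [8, 7]), (72, [6, 5, 4]), (10, [3, 2, 1])] = true := by decide +kernel

theorem ins (x : Spor.Fi22.Gen) : (PM.ofHom rho).In (plk 12 4095) (tb (ix x)) :=
  ⟨_, PM.rf_ofHom rho fun i => by rw [rho_of]; exact S_val ((ix_lt x).trans (by norm_num)) i⟩

theorem tri_fi22 {N : Type} [Group N] (h : Spor.IsoFi22 N) : ∃ c, Tri N 2 3 c := by
  obtain ⟨e⟩ := h
  have h1 := Fischer.Fi22Order.card_fi22
  have : Finite Spor.Fi22 := Nat.finite_of_card_ne_zero (by rw [h1]; norm_num)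
  obtain ⟨c, h2⟩ := any_of_gen (gen_of_chk (perm_tab (PM.ofHom rho) (by norm_num) (by norm_num) (by norm_num))
    (AllIn.cons (ins .a) (AllIn.cons (ins .b) (AllIn.cons (ins .c) (AllIn.cons (ins .d) (AllIn.cons (ins .e)
      (AllIn.cons (ins .f) (AllIn.cons (ins .g) (AllIn.cons (ins .h) (AllIn.cons (ins .i) AllIn.nil))))))))) h1.le ck)
  exact ⟨c, h2.congr e.symm⟩

end Cfsg.Agent.N2.Tg.Fi22
end
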